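import Mathlib

/-! Subgroups containing the normalisers of all their nontrivial `p`-subgroups. -/

set_option autoImplicit false

namespace Cfsg.Lib.Subfield

variable {H : Type*} [Group H] [Finite H] {p : ℕ} [Fact p.Prime] {M : Subgroup H}

/-- `M` contains the normalisers of its nontrivial `p`-subgroups. -/
def NormClosed (p : ℕ) (M : Subgroup H) : Prop :=
  ∀ Q : Subgroup H, Q ≤ M → IsPGroup p ↥Q → Q ≠ ⊥ → Subgroup.normalizer (Q : Set H) ≤ M

/-- A Sylow subgroup meeting `M` nontrivially lies in `M`. -/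
theorem sylow_le (hN : NormClosed p M) (P : Sylow p H) {x : H} (hxP : x ∈ (P : Subgroup H)) (hxM : x ∈ M)
    (hx : x ≠ 1) : (P : Subgroup H) ≤ M := by
  by_contra hcon
  haveI : Group.IsNilpotent (P : Subgroup H) := P.isPGroup'.isNilpotent
  have hlt : (M.subgroupOf (P : Subgroup H)) < ⊤ := by
    refine lt_top_iff_ne_top.2 fun e => hcon fun y hy => ?_
    have : (⟨y, hy⟩ : (P : Subgroup H)) ∈ M.subgroupOf (P : Subgroup H) := e ▸ Subgroup.mem_top _
    exact this
  obtain ⟨y, hy, hyn⟩ := SetLike.exists_of_lt (normalizerCondition_of_isNilpotent _ hlt)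
  have hQ : ((P : Subgroup H) ⊓ M) ≠ ⊥ := fun e =>
    hx (Subgroup.mem_bot.1 (e ▸ Subgroup.mem_inf.2 ⟨hxP, hxM⟩))
  refine hyn (hN _ inf_le_right (P.isPGroup'.to_le inf_le_left) hQ (?_ : (y : H) ∈ _))
  rw [Subgroup.mem_normalizer_iff] at hy ⊢
  intro z
  simp only [Subgroup.mem_inf]
  constructor
  · rintro ⟨hzP, hzM⟩
    exact ⟨mul_mem (mul_mem y.2 hzP) (inv_mem y.2), (hy ⟨z, hzP⟩).1 hzM⟩
  · rintro ⟨hzP, hzM⟩
    have hz : z ∈ (P : Subgroup H) := by
      have h := mul_mem (mul_mem (inv_mem y.2) hzP) y.2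
      simpa [mul_assoc] using h
    exact ⟨hz, (hy ⟨z, hz⟩).2 hzM⟩

/-- An element moving a `p`-element of `M` into `M` lies in `M`. -/
theorem mem_of_conj_mem (hN : NormClosed p M) {x g : H} (hxM : x ∈ M) (hx : x ≠ 1) (hxp : x ^ p = 1)
    (hg : g * x * g⁻¹ ∈ M) : g ∈ M := by
  have hZ : IsPGroup p ↥(Subgroup.zpowers x) := by
    refine IsPGroup.of_card (n := 1) ?_
    rw [Nat.card_zpowers, orderOf_eq_prime hxp hx, pow_one]
  obtain ⟨P, hP⟩ := hZ.exists_le_sylow
  have hxP : x ∈ (P : Subgroup H) := hP (Subgroup.mem_zpowers x)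
  have h1 := sylow_le hN P hxP hxM hx
  have hmem : g * x * g⁻¹ ∈ ((g • P : Sylow p H) : Subgroup H) := by
    rw [Sylow.coe_subgroup_smul]
    exact ⟨x, hxP, rfl⟩
  have h2 := sylow_le hN (g • P) hmem hg (fun e => hx (by simpa using e))
  obtain ⟨m, hm⟩ := MulAction.exists_smul_eq ↥M (P.subtype h1) ((g • P).subtype h2)
  have h3 : (m : H) • P = g • P := by
    rw [Sylow.smul_subtype] at hm
    exact Sylow.subtype_injective hm
  have h4 : ((m : H)⁻¹ * g) • P = P := by rw [mul_smul, ← h3, inv_smul_smul]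
  have hne : (P : Subgroup H) ≠ ⊥ := fun e => hx (Subgroup.mem_bot.1 (e ▸ hxP))
  have h5 := hN _ h1 P.isPGroup' hne (Sylow.smul_eq_iff_mem_normalizer.1 h4)
  simpa using mul_mem m.2 h5

/-- An element commuting with a `p`-element of `M` lies in `M`. -/
theorem mem_of_commute (hN : NormClosed p M) {x g : H} (hxM : x ∈ M) (hx : x ≠ 1) (hxp : x ^ p = 1)
    (hg : g * x = x * g) : g ∈ M :=
  mem_of_conj_mem hN hxM hx hxp (by rw [hg, mul_inv_cancel_right]; exact hxM)

/-- Two classes of involutions in `M` force `M` to be the whole group. -/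
theorem eq_top_of_two_classes (hN : NormClosed 2 M) {s t : H} (hsM : s ∈ M) (htM : t ∈ M) (hs : s ≠ 1)
    (ht : t ≠ 1) (hs2 : s ^ 2 = 1) (ht2 : t ^ 2 = 1) (hst : ∀ h : H, h * s * h⁻¹ ≠ t) : M = ⊤ := by
  haveI : Fact (Nat.Prime 2) := ⟨Nat.prime_two⟩
  refine eq_top_iff.2 fun h _ => ?_
  set s' := h * s * h⁻¹ with hs'
  have hs2' : s' * s' = 1 := by rw [← sq, hs', conj_pow, hs2, mul_one, mul_inv_cancel]
  have ht2' : t * t = 1 := by rw [← sq, ht2]
  have hsi : s'⁻¹ = s' := inv_eq_of_mul_eq_one_right hs2'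
  have hti : t⁻¹ = t := inv_eq_of_mul_eq_one_right ht2'
  set d := s' * t with hd
  have hinv : t * d * t⁻¹ = d⁻¹ := by rw [hd, mul_inv_rev, hsi, hti, mul_assoc, mul_assoc, ht2', mul_one]
  have hpow : ∀ n : ℕ, t * d ^ n * t⁻¹ = (d ^ n)⁻¹ := fun n => by rw [← conj_pow, hinv, inv_pow]
  rcases Nat.even_or_odd (orderOf d) with ⟨k, hk⟩ | ⟨k, hk⟩
  · have hk0 : 0 < k := by have := orderOf_pos d; omega
    set u := d ^ k with hu
    have hu1 : u ≠ 1 := pow_ne_one_of_lt_orderOf hk0.ne' (by omega)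
    have hu2 : u ^ 2 = 1 := by rw [hu, ← pow_mul, show k * 2 = orderOf d by omega, pow_orderOf_eq_one]
    have hui : u⁻¹ = u := inv_eq_of_mul_eq_one_right (by rw [← sq, hu2])
    have hut : t * u = u * t := by
      have := hpow k
      rw [← hu, hui, mul_inv_eq_iff_eq_mul] at this
      exact this
    have huM : u ∈ M := mem_of_commute hN htM ht ht2 hut.symm
    have hus : s' * u = u * s' := by
      have e : s' = d * t := by rw [hd, mul_assoc, ht2', mul_one]
      have hdu : d * u = u * d := by rw [hu, ← pow_succ', ← pow_succ]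
      rw [e, mul_assoc, hut, ← mul_assoc, hdu, mul_assoc]
    exact mem_of_conj_mem hN hsM hs hs2 (mem_of_commute hN huM hu1 hu2 hus)
  · refine absurd ?_ (hst ((d ^ (k + 1))⁻¹ * h))
    have e : d ^ (k + 1) * t * (d ^ (k + 1))⁻¹ = s' := by
      have h1 : t * (d ^ (k + 1))⁻¹ = d ^ (k + 1) * t := by
        rw [← hpow, ← mul_assoc, ← mul_assoc, ht2', one_mul, hti]
      rw [mul_assoc, h1, ← mul_assoc, ← pow_add, show k + 1 + (k + 1) = orderOf d + 1 by omega, pow_succ,
        pow_orderOf_eq_one, one_mul, hd, mul_assoc, ht2', mul_one]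
    calc (d ^ (k + 1))⁻¹ * h * s * ((d ^ (k + 1))⁻¹ * h)⁻¹
        = (d ^ (k + 1))⁻¹ * s' * d ^ (k + 1) := by rw [hs']; group
      _ = t := by rw [← e]; group

end Cfsg.Lib.Subfield
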