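import Cfsg.Agent.Chev.Subfield.Full

/-! An irrational element of `H ∩ U` yields an irrational element of the highest root subgroup or a special one. -/

set_option autoImplicit false

open Cfsg.Lie

namespace Cfsg.Lib.Subfield

open Cfsg.Lib.Chev

variable {D : ChevalleyDatum} {C : Cert} {T : List (List ℤ)} {F : Type*} [Field F] {Sh : List ℕ} {r0 : ℕ}
  {σ : F →+* F} {H : Subgroup (GL D.Idx F)}

/-- Irrational leading coordinate at `k`. -/
def Lead (S : Struct D C) (σ : F →+* F) (H : Subgroup (GL D.Idx F)) (k : ℕ) : Prop :=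
  D.nroots / 2 ≤ k ∧ k < D.nroots ∧ ∃ t : F, σ t ≠ t ∧ ∃ w ∈ S.Ugen F (k + 1), S.ok.xG k t * w ∈ H

theorem exists_lead (S : Struct D C) (hRH : ratGroup D σ ≤ H) :
    ∀ u ∈ H, u ∈ D.posUnipotent F → phiG σ D u ≠ u → ∃ k, Lead S σ H k := by
  have hs := S.hsum
  suffices H' : ∀ d k, d + k = D.nroots → D.nroots / 2 ≤ k → ∀ u ∈ S.Ugen F k, u ∈ H →
      phiG σ D u ≠ u → ∃ k, Lead S σ H k by
    intro u hu hU hne
    exact H' (D.nroots - D.nroots / 2) (D.nroots / 2) (by omega) le_rfl u (by rwa [← S.posUnipotent_eq]) hu hne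
  intro d
  induction d with
  | zero =>
    intro k hk _ u hu _ hne
    rw [S.Ugen_top (by omega), Subgroup.mem_bot] at hu
    exact absurd (by rw [hu, map_one]) hne
  | succ d ih =>
    intro k hk hkp u hu huH hne
    obtain ⟨t, w, hw, rfl⟩ := S.Ugen_split (show k < D.nroots by omega) hkp hu
    by_cases ht : σ t = t
    · refine ih (k + 1) (by omega) (by omega) w hw
        (by simpa using mul_mem (inv_mem (xG_rat_mem S hRH k ht)) huH) fun e => hne ?_
      rw [map_mul, phiG_xG σ S, ht, e]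
    · exact ⟨k, hkp, by omega, t, ht, w, hw, huH⟩

theorem okGrow_spec (S : Struct D C) {q : ℕ} {spec : List ℕ} (h : okGrow D q spec = true) :
    (∀ k ∈ spec, centralAt D q k = true) ∧
    ∀ k, D.nroots / 2 ≤ k → k < D.nroots → k = top D ∨ k ∈ spec ∨
      ∃ s, D.nroots / 2 ≤ s ∧ s < D.nroots ∧ stepAt D q k s = true := by
  simp only [okGrow, Bool.and_eq_true] at h
  refine ⟨fun k hk => (kall_iff _ _).1 h.1 k hk, fun k hk hkn => ?_⟩
  have h2 := kall_krange h.2 k hkn
  simp only [Bool.or_eq_true, kany_iff, Bool.and_eq_true] at h2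
  rcases h2 with ((h2 | h2) | ⟨s, hs, h2⟩) | ⟨s, -, ⟨h2, h3⟩, h4⟩
  · have : k < D.nroots / 2 := Nat.le_of_ble_eq_true h2; omega
  · exact Or.inl (Nat.eq_of_beq_eq_true h2)
  · exact Or.inr (Or.inl (Nat.eq_of_beq_eq_true h2 ▸ hs))
  · exact Or.inr (Or.inr ⟨s, Nat.le_of_ble_eq_true h2, Nat.le_of_ble_eq_true h3, h4⟩)

/-- A special root element is central in `U`. -/
theorem central_commute (S : Struct D C) (p : ℕ) [CharP F p] {k : ℕ} (hk : k < D.nroots)
    (hkp : D.nroots / 2 ≤ k) (h : centralAt D p k = true) (t : F) {u : GL D.Idx F}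
    (hu : u ∈ D.posUnipotent F) : Commute (S.ok.xG k t) u := by
  have key : ∀ s, s < D.nroots → D.nroots / 2 ≤ s → ∀ a : F, Commute (S.ok.xG k t) (S.ok.xG s a) := by
    intro s hs hsp a
    rcases eq_or_ne s k with rfl | hne
    · show _ = _
      rw [S.ok.xG_mul, S.ok.xG_mul, add_comm]
    have h2 := kall_krange (show kall _ (krange 0 D.nroots) = true from h) s hs
    simp only [Bool.or_eq_true, kall_iff] at h2
    rcases h2 with (h2 | h2) | h2
    · have : s < D.nroots / 2 := Nat.le_of_ble_eq_true h2; omega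
    · exact absurd (Nat.eq_of_beq_eq_true h2) hne
    · have hn : s ≠ D.neg k := by have := S.neg_lt_half hk hkp; omega
      have e := conj_eq S hk hs hne hn t a
      have hw : S.ok.wG (D.commWord F k s (-t) a) = 1 := by
        refine List.prod_eq_one fun g hg => ?_
        simp only [ChevalleyDatum.commWord, List.map_map, List.mem_map] at hg
        obtain ⟨q, hq, rfl⟩ := hg
        have hc : (q.2.1 : F) = 0 := by
          rw [CharP.intCast_eq_zero_iff F p, Int.natCast_dvd]
          exact Nat.dvd_of_mod_eq_zero (Nat.eq_of_beq_eq_true (h2 q hq))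
        simp [hc, S.xG_zero]
      rw [hw, mul_one] at e
      exact mul_inv_eq_iff_eq_mul.1 e
  induction hu using Subgroup.closure_induction'' with
  | one => exact Commute.one_right _
  | mem g hg =>
    obtain ⟨s, a, hs, hg⟩ := hg
    obtain ⟨h1, h2⟩ := S.isPos_iff.1 hs
    rw [S.ok.eq_xG hg]
    exact key s h2 h1 a
  | inv_mem g hg =>
    obtain ⟨s, a, hs, hg⟩ := hg
    obtain ⟨h1, h2⟩ := S.isPos_iff.1 hs
    rw [S.ok.eq_xG hg, S.ok.xG_inv]
    exact key s h2 h1 _
  | mul a b _ _ iha ihb => exact iha.mul_right ihb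

/-- An irrational element of `H ∩ U` gives an irrational long root element or a special one. -/
theorem grow (K : Core D C T) (hr : 0 < D.rank) (p q : ℕ) [Fact p.Prime] [CharP F p] {spec : List ℕ}
    (hG : okGrow D q spec = true) (hqp : q = p ∨ (5 ≤ p ∧ q = 5)) (hspec : spec.length ≤ 1)
    (hcent : spec ≠ [] → q = p) (hRH : ratGroup D σ ≤ H)
    (hne : ∃ u ∈ H, u ∈ D.posUnipotent F ∧ phiG σ D u ≠ u) :
    (∃ t, σ t ≠ t ∧ K.S.ok.xG (top D) t ∈ H) ∨
    ∃ k ∈ spec, ∃ t s, σ t ≠ t ∧ K.S.ok.xG k t * K.S.ok.xG (top D) s ∈ H := by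
  classical
  have S := K.S
  obtain ⟨t1, t2⟩ := top_lt S hr
  obtain ⟨u, hu, huU, hun⟩ := hne
  obtain ⟨k₀, hk₀⟩ := exists_lead S hRH u hu huU hun
  set P := (Finset.range D.nroots).filter (Lead S σ H)
  have hP : P.Nonempty := ⟨k₀, Finset.mem_filter.2 ⟨Finset.mem_range.2 hk₀.2.1, hk₀⟩⟩
  set k := P.max' hP
  obtain ⟨-, hkp, hkn, t, ht, w, hw, hg⟩ : k ∈ Finset.range D.nroots ∧ Lead S σ H k :=
    Finset.mem_filter.1 (P.max'_mem hP)
  have hmax : ∀ j, Lead S σ H j → j ≤ k := fun j hj =>
    P.le_max' j (Finset.mem_filter.2 ⟨Finset.mem_range.2 hj.2.1, hj⟩)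
  obtain ⟨hcen, hstep⟩ := okGrow_spec S hG
  -- one step raises the index
  have up : ∀ j s (a : F) (v g : GL D.Idx F), D.nroots / 2 ≤ j → j < D.nroots → D.nroots / 2 ≤ s →
      s < D.nroots → stepAt D q j s = true → σ a ≠ a → v ∈ S.Ugen F (j + 1) → g ∈ H →
      g * S.ok.xG s 1 * g⁻¹ = S.ok.xG j a * v * S.ok.xG s 1 * (S.ok.xG j a * v)⁻¹ → j < k := by
    intro j s a v g hj hjn hs hsn hst ha hv hgH e
    obtain ⟨v', c, hjv, hvn, hc3, hcq, -, hh⟩ := step_comm (F := F) S hsn hjn hj hs hst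
    obtain ⟨W, hW, eW⟩ := hh a v hv
    rw [← e] at eW
    have hxs := xG_rat_mem (σ := σ) S hRH s (map_one σ)
    have hirr : σ ((c : F) * a) ≠ (c : F) * a := by
      rw [map_mul, map_intCast]
      exact fun h => ha (mul_left_cancel₀ (coeff_ne p hc3 hcq hqp) h)
    have hle := hmax v' ⟨by omega, hvn, _, hirr, W, hW,
      eW ▸ mul_mem (inv_mem hxs) (mul_mem (mul_mem hgH hxs) (inv_mem hgH))⟩
    omega
  rcases hstep k hkp hkn with hk | hk | ⟨s, hs, hsn, hst⟩
  · refine Or.inl ⟨t, ht, ?_⟩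
    rw [S.Ugen_top (by unfold top at hk; omega), Subgroup.mem_bot] at hw
    rw [hw, mul_one, hk] at hg
    exact hg
  · refine Or.inr ⟨k, hk, ?_⟩
    have hqp' := hcent (List.ne_nil_of_mem hk)
    subst hqp'
    have hck : ∀ (b : F) (v : GL D.Idx F), v ∈ D.posUnipotent F → Commute (S.ok.xG k b) v :=
      fun b v hv => central_commute S q hkn hkp (hcen k hk) b hv
    suffices H' : ∀ d j, d + j = D.nroots → k < j → ∀ v ∈ S.Ugen F j, S.ok.xG k t * v ∈ H →
        ∃ t s, σ t ≠ t ∧ S.ok.xG k t * S.ok.xG (top D) s ∈ H from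
      H' (D.nroots - (k + 1)) (k + 1) (by omega) (by omega) w hw hg
    intro d
    induction d with
    | zero =>
      intro j hj _ v hv hvH
      rw [S.Ugen_top (by omega), Subgroup.mem_bot] at hv
      exact ⟨t, 0, ht, by rw [S.xG_zero]; rwa [hv] at hvH⟩
    | succ d ih =>
      intro j hj hkj v hv hvH
      obtain ⟨a, v', hv', rfl⟩ := S.Ugen_split (show j < D.nroots by omega) (by omega) hv
      rcases eq_or_ne j (top D) with hjt | hjt
      · rw [S.Ugen_top (by unfold top at hjt; omega), Subgroup.mem_bot] at hv'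
        rw [hv', mul_one, hjt] at hvH
        exact ⟨t, a, ht, hvH⟩
      by_cases ha : σ a = a
      · refine ih (j + 1) (by omega) (by omega) v' hv' ?_
        have h := mul_mem (inv_mem (xG_rat_mem S hRH j ha)) hvH
        rwa [← mul_assoc, ← ((hck t _ (S.xG_mem_U (show D.nroots / 2 ≤ j by omega) (by omega) a)).inv_right).eq,
          mul_assoc, inv_mul_cancel_left] at h
      rcases hstep j (by omega) (by omega) with h | h | ⟨s, hs, hsn, hst⟩
      · exact absurd h hjt
      · have : j = k := by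
          rcases spec with _ | ⟨x, _ | ⟨y, l⟩⟩
          · simp at h
          · rw [List.mem_singleton.1 h, List.mem_singleton.1 hk]
          · simp at hspec
        omega
      · refine absurd (up j s a v' _ (by omega) (by omega) hs hsn hst ha hv' hvH ?_) (by omega)
        have hU : S.ok.xG j a * v' * S.ok.xG s 1 * (S.ok.xG j a * v')⁻¹ ∈ D.posUnipotent F := by
          have hx : S.ok.xG j a * v' ∈ D.posUnipotent F :=
            mul_mem (S.xG_mem_U (by omega) (by omega) a)
              (by rw [S.posUnipotent_eq]; exact S.Ugen_mono (by omega) hv')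
          exact mul_mem (mul_mem hx (S.xG_mem_U hs hsn 1)) (inv_mem hx)
        calc S.ok.xG k t * (S.ok.xG j a * v') * S.ok.xG s 1 * (S.ok.xG k t * (S.ok.xG j a * v'))⁻¹
            = S.ok.xG k t * (S.ok.xG j a * v' * S.ok.xG s 1 * (S.ok.xG j a * v')⁻¹) * (S.ok.xG k t)⁻¹ := by group
          _ = _ := by rw [(hck t _ hU).eq, mul_inv_cancel_right]
  · exact absurd (up k s t w _ hkp hkn hs hsn hst ht hw hg rfl) (lt_irrefl k)

/-- The parameters of a root subgroup inside `H`. -/
def params (S : Struct D C) (H : Subgroup (GL D.Idx F)) (r : ℕ) : AddSubgroup F where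
  carrier := {t | S.ok.xG r t ∈ H}
  zero_mem' := by show S.ok.xG r 0 ∈ H; rw [S.xG_zero]; exact one_mem _
  add_mem' := fun {a b} ha hb => by show S.ok.xG r (a + b) ∈ H; rw [← S.ok.xG_mul]; exact mul_mem ha hb
  neg_mem' := fun {a} ha => by show S.ok.xG r (-a) ∈ H; rw [← S.ok.xG_inv]; exact inv_mem ha

theorem mem_params {S : Struct D C} {H : Subgroup (GL D.Idx F)} {r : ℕ} {t : F} :
    t ∈ params S H r ↔ S.ok.xG r t ∈ H := Iff.rfl

theorem params_move (S : Struct D C) (hRH : ratGroup D σ ≤ H) {W : List ℕ}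
    (hW : okWord D W = true) {r : ℕ} (hr : r < D.nroots) :
    params S H r = params S H (wW C W r) :=
  AddSubgroup.ext fun t => move_iff S hRH hW hr t

/-- An `A₂` of long roots makes the long parameters closed under products. -/
theorem long_mul_A2 (K : Core D C T) (hr : 0 < D.rank)
    {Ws : List (List ℕ)} {k : ℕ} (hA : okA2 D C Ws k = true) (hWs : ∀ W ∈ Ws, okWord D W = true)
    (hRH : ratGroup D σ ≤ H)
    : ∀ x ∈ params K.S H (top D), ∀ y ∈ params K.S H (top D), x * y ∈ params K.S H (top D) := by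
  have S := K.S
  obtain ⟨t1, t2⟩ := top_lt S hr
  set a := C.sr k
  set b := C.w k (top D)
  simp only [okA2, Bool.and_eq_true, Bool.not_eq_true', kany_iff] at hA
  obtain ⟨⟨⟨⟨hk, W, hW, eW⟩, hb⟩, hab⟩, hterm⟩ := hA
  replace hk : k < D.rank := Nat.le_of_ble_eq_true hk
  replace hb : D.nroots / 2 ≤ b := Nat.le_of_ble_eq_true hb
  replace hab : a ≠ b := Nat.ne_of_beq_eq_false hab
  have hA : a < D.nroots := S.ok.sr_lt hk
  have hB : b < D.nroots := S.ok.w_lt hk t1
  have hap := S.sr_pos hk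
  have ea : params S H (top D) = params S H a := by
    rw [params_move S hRH (hWs W hW) t1, Nat.eq_of_beq_eq_true eW]
  have eb : params S H (top D) = params S H b :=
    params_move S hRH (W := [k]) ((kall_iff _ _).2 fun j hj => by
      rw [List.mem_singleton.1 hj]; exact Nat.ble_eq_true_of_le hk) t1
  have hn : b ≠ D.neg a := by have := S.neg_lt_half hA hap; omega
  intro x hx y hy
  generalize hq : D.commTerms a b = L at hterm
  rcases L with _ | ⟨⟨v, c, i, j⟩, _ | ⟨z, L⟩⟩
  · simp at hterm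
  · simp only [Bool.and_eq_true] at hterm
    obtain ⟨⟨⟨h1, h2⟩, h3⟩, h4⟩ := hterm
    have e := conj_eq S hA hB hab.symm hn x y
    have hx' : S.ok.xG a x ∈ H := mem_params.1 (show x ∈ params S H a from ea ▸ hx)
    have hy' : S.ok.xG b y ∈ H := mem_params.1 (show y ∈ params S H b from eb ▸ hy)
    have hmem : S.ok.wG (D.commWord F a b (-x) y) ∈ H := by
      have h := mul_mem (inv_mem hy') (mul_mem (mul_mem hx' hy') (inv_mem hx'))
      rwa [e, inv_mul_cancel_left] at h
    simp [ChevalleyDatum.commWord, hq, Ok.wG, Nat.eq_of_beq_eq_true h1, Nat.eq_of_beq_eq_true h3,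
      Nat.eq_of_beq_eq_true h4] at hmem
    rcases sign_of_natAbs (F := F) (Nat.eq_of_beq_eq_true h2) with hc | hc
    · simpa [hc, mem_params] using hmem
    · rw [hc] at hmem
      have h := inv_mem hmem
      rw [S.ok.xG_inv] at h
      simpa [mem_params] using h
  · simp at hterm

/-- A set closed under sums and products as a subring. -/
def ringOf (A : AddSubgroup F) (h1 : (1 : F) ∈ A) (hmul : ∀ x ∈ A, ∀ y ∈ A, x * y ∈ A) : Subring F :=
  { A with
    mul_mem' := fun {a b} ha hb => hmul a ha b hb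
    one_mem' := h1 }

theorem one_mem_params (S : Struct D C) (hRH : ratGroup D σ ≤ H) (r : ℕ) : (1 : F) ∈ params S H r :=
  xG_rat_mem S hRH r (map_one σ)

theorem finite_params (S : Struct D C) [Finite H] {r : ℕ} (hr : r < D.nroots) :
    (params S H r : Set F).Finite := by
  refine Set.finite_coe_iff.1 (Finite.of_injective
    (fun x : (params S H r : Set F) => (⟨S.ok.xG r x.1, x.2⟩ : H)) fun x y h => ?_)
  exact Subtype.ext (S.xG_left_inj hr (congrArg Subtype.val h))

theorem inv_mem_finite {R : Subring F} (hR : (R : Set F).Finite) {x : F} (hx : x ∈ R) : x⁻¹ ∈ R := by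
  haveI : Finite R := hR.to_subtype
  rcases eq_or_ne x 0 with rfl | h0
  · rw [inv_zero]; exact R.zero_mem
  obtain ⟨y, hy⟩ := Finite.injective_iff_surjective.1
    (show Function.Injective (fun y : R => (⟨x, hx⟩ : R) * y) from
      fun a b h => Subtype.ext (mul_left_cancel₀ h0 (congrArg Subtype.val h))) 1
  have h := congrArg Subtype.val hy
  rw [← eq_inv_of_mul_eq_one_right h]
  exact y.2

/-- The `p`-th power is surjective on a finite subring. -/
theorem pow_char_surj_finite {R : Subring F} (hR : (R : Set F).Finite) (p : ℕ) [Fact p.Prime] [CharP F p]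
    {x : F} (hx : x ∈ R) : ∃ y ∈ R, y ^ p = x := by
  haveI : Finite R := hR.to_subtype
  obtain ⟨y, hy⟩ := Finite.injective_iff_surjective.1
    (show Function.Injective (fun y : R => (⟨(y : F) ^ p, pow_mem y.2 p⟩ : R)) from
      fun a b h => Subtype.ext (frobenius_inj F p (congrArg Subtype.val h))) ⟨x, hx⟩
  exact ⟨y, y.2, congrArg Subtype.val hy⟩

end Cfsg.Lib.Subfield
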