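import Cfsg.Agent.Chev.Subfield.Norm
import Cfsg.Agent.Chev.Subfield.Grow

/-! An overgroup meeting `U` in rational points meets `B` in fixed points, over any field. -/

set_option autoImplicit false

open Cfsg.Lie

namespace Cfsg.Lib.Subfield

open Cfsg.Lib.Chev

variable {D : ChevalleyDatum} {C : Cert} {T : List (List ℤ)} {F : Type*} [Field F]

/-- A coroot pairing to `±1` with each listed root. -/
noncomputable def okPair1 (D : ChevalleyDatum) (L : List ℕ) : Bool :=
  kall (fun k => kany (fun r => Nat.beq (pair D r k).natAbs 1) (krange 0 D.nroots)) L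

/-- A root whose commutator with the highest one has a leading term linear in the highest one. -/
noncomputable def okDown (D : ChevalleyDatum) (a : ℕ) : Bool :=
  let h := Nat.div D.nroots 2
  Nat.blt a D.nroots && !Nat.beq a (top D) && !Nat.beq a (D.neg (top D)) &&
  match D.commTerms (top D) a with
  | [(v, c, i, _)] => Nat.ble h v && Nat.blt v D.nroots && Nat.beq c.natAbs 1 && Nat.beq i 1
  | [(v', _, _, _), (v, c, i, _)] =>
      Nat.ble h v && Nat.blt v v' && Nat.blt v' D.nroots && Nat.beq c.natAbs 1 && Nat.beq i 1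
  | _ => false

variable {σ : F →+* F} {H : Subgroup (GL D.Idx F)}

theorem tG_conj_Ugen (S : Struct D C) (c : Fin D.rank → Fˣ) {k : ℕ} {g : GL D.Idx F} (hg : g ∈ S.Ugen F k) :
    Ok.tG D F c * g * (Ok.tG D F c)⁻¹ ∈ S.Ugen F k := by
  refine Struct.conj_closure_le ?_ g hg
  rintro x ⟨r, t, a, b, rfl⟩
  rw [S.tG_conj_xG b]
  exact S.xG_mem_Ugen a b _

/-- An element of `U` commuting with the rational root elements and the rational torus is a highest root element. -/
theorem cent_rat_U (K : Core D C T) (hr : 0 < D.rank) (p q : ℕ) [Fact p.Prime] [CharP F p] {spec : List ℕ}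
    (hG : okGrow D q spec = true) (hqp : q = p ∨ (5 ≤ p ∧ q = 5)) (hP : okPair1 D spec = true)
    {u : F} (hu0 : u ≠ 0) (hu1 : u ≠ 1) {z : GL D.Idx F} (hz : z ∈ D.posUnipotent F)
    (hx : ∀ s, D.nroots / 2 ≤ s → s < D.nroots → z * K.S.ok.xG s 1 = K.S.ok.xG s 1 * z)
    (ht : ∀ r, r < D.nroots → z * K.S.ok.hG r u = K.S.ok.hG r u * z) :
    z ∈ K.S.Ugen F (top D) := by
  have S := K.S
  obtain ⟨t1, t2⟩ := top_lt S hr
  obtain ⟨-, hstep⟩ := okGrow_spec S hG
  suffices H : ∀ k, D.nroots / 2 ≤ k → k ≤ top D → z ∈ S.Ugen F k from H _ t2 le_rfl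
  intro k hk
  induction k, hk using Nat.le_induction with
  | base => intro _; rw [← S.posUnipotent_eq]; exact hz
  | succ k hk ih =>
    intro hle
    have hkn : k < D.nroots := by omega
    obtain ⟨t, w, hw, rfl⟩ := S.Ugen_split hkn hk (ih (by omega))
    suffices ht0 : t = 0 by rw [ht0, S.xG_zero, one_mul]; exact hw
    rcases hstep k hk hkn with h | h | ⟨s, hs, hsn, hst⟩
    · omega
    · obtain ⟨r, hr', hpair⟩ := (kany_iff _ _).1 ((kall_iff _ _).1 hP k h)
      rw [krange_eq, List.mem_range'_1] at hr'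
      have hrn : r < D.nroots := by omega
      have e := (ht r hrn).symm
      have e1 := hG_conj_xG (F := F) S K.hco hrn hkn hu0 t
      have e2 : S.ok.hG r u * w * (S.ok.hG r u)⁻¹ ∈ S.Ugen F (k + 1) := by
        have e3 := hG_eq_tG (F := F) S K.hco hrn (Units.mk0 u hu0)
        rw [Units.val_mk0] at e3
        rw [e3]; exact tG_conj_Ugen S _ hw
      have e4 : S.ok.xG k (u ^ pair D r k * t) * (S.ok.hG r u * w * (S.ok.hG r u)⁻¹) = S.ok.xG k t * w := by
        rw [← e1]
        calc _ = S.ok.hG r u * (S.ok.xG k t * w) * (S.ok.hG r u)⁻¹ := by group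
          _ = _ := by rw [e, mul_inv_cancel_right]
      have e5 := lead_eq S hkn hk e2 hw e4
      by_contra h0
      have e6 : u ^ pair D r k = 1 := mul_right_cancel₀ h0 (e5.trans (one_mul t).symm)
      rcases Int.natAbs_eq_iff.1 (Nat.eq_of_beq_eq_true hpair) with hh | hh <;> rw [hh] at e6
      · exact hu1 (by simpa using e6)
      · exact hu1 (inv_eq_one.1 (by simpa using e6))
    · obtain ⟨v, c, hkv, hvn, hc3, hcq, -, hh⟩ := step_comm (F := F) S hsn hkn hk hs hst
      have hvp : D.nroots / 2 ≤ v := by omega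
      obtain ⟨W, hW, eW⟩ := hh t w hw
      rw [hx s hs hsn, mul_inv_cancel_right, inv_mul_cancel] at eW
      have h0 := lead_zero S hvn hvp hW (eW ▸ one_mem _)
      exact (mul_eq_zero.1 h0).resolve_left (coeff_ne p hc3 hcq hqp)

/-- A twisted highest root element of an overgroup is rational. -/
theorem top_fixed (K : Core D C T) (hr : 0 < D.rank) {a : ℕ} (hDn : okDown D a = true)
    (hRH : ratGroup D σ ≤ H) (hU : ∀ g ∈ H, g ∈ D.posUnipotent F → phiG σ D g = g) {d : GL D.Idx F}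
    (hd : d ∈ D.diagonalSubgroup F) (hdf : phiG σ D d = d) {s : F} (hg : K.S.ok.xG (top D) s * d ∈ H) :
    σ s = s := by
  have S := K.S
  obtain ⟨t1, t2⟩ := top_lt S hr
  simp only [okDown, Bool.and_eq_true, Bool.not_eq_true'] at hDn
  obtain ⟨⟨⟨ha, hat⟩, han⟩, hterm⟩ := hDn
  have ha' : a < D.nroots := Nat.le_of_ble_eq_true ha
  obtain ⟨-, c, hc, e⟩ := S.act_diag (F := F) hd ⟨a, ha'⟩
  have e1 := (e 1).1
  rw [Equiv.Perm.one_apply, mul_one] at e1
  simp only at e1
  have hcf : σ c = c := by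
    have e2 := congrArg (phiG σ D) e1
    rw [map_mul, map_mul, map_inv, hdf, phiG_xG σ S, map_one, e1, phiG_xG σ S] at e2
    exact (S.xG_left_inj ha' e2).symm
  have hin : K.S.ok.xG (top D) s * d * S.ok.xG a 1 * (K.S.ok.xG (top D) s * d)⁻¹ * (S.ok.xG a c)⁻¹ ∈ H :=
    mul_mem (mul_mem (mul_mem hg (xG_rat_mem S hRH a (map_one σ))) (inv_mem hg))
      (inv_mem (xG_rat_mem S hRH a hcf))
  have hconj : S.ok.xG a c * S.ok.wG (D.commWord F (top D) a (-s) c) * (S.ok.xG a c)⁻¹ ∈ H := by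
    have e2 := conj_eq (F := F) S t1 ha' (Nat.ne_of_beq_eq_false hat) (Nat.ne_of_beq_eq_false han) s c
    rw [← e2]
    convert hin using 1
    rw [← e1]; group
  have hwH : S.ok.wG (D.commWord F (top D) a (-s) c) ∈ H := by
    have hx := xG_rat_mem S hRH a hcf
    simpa [mul_assoc] using mul_mem (mul_mem (inv_mem hx) hconj) hx
  have key : ∀ (v : ℕ) (c0 : ℤ) (j : ℕ) (W : GL D.Idx F), D.nroots / 2 ≤ v → v < D.nroots → c0.natAbs = 1 →
      W ∈ S.Ugen F (v + 1) →
      S.ok.wG (D.commWord F (top D) a (-s) c) = S.ok.xG v ((c0 : F) * s ^ 1 * c ^ j) * W → σ s = s := by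
    intro v c0 j W hv hvn hc0 hW eW
    have hWU : W ∈ D.posUnipotent F := by rw [S.posUnipotent_eq]; exact S.Ugen_mono (by omega) hW
    have hf := hU _ hwH (eW ▸ mul_mem (S.xG_mem_U hv hvn _) hWU)
    rw [eW, map_mul, phiG_xG σ S] at hf
    have h := lead_eq S hvn hv (phiG_Ugen σ S hW) hW hf
    simp only [map_mul, map_pow, map_intCast, hcf, pow_one] at h
    have hne : (c0 : F) ≠ 0 := (sign_of_natAbs (F := F) hc0).ne
    have h2 := mul_left_cancel₀ hne (mul_right_cancel₀ (pow_ne_zero j hc) h)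
    exact h2
  generalize hL : D.commTerms (top D) a = L at hterm
  rcases L with _ | ⟨⟨v', c', i', j'⟩, _ | ⟨⟨v, c0, i, j⟩, _ | ⟨q, L⟩⟩⟩
  · simp at hterm
  · simp only [Bool.and_eq_true] at hterm
    obtain ⟨⟨⟨a1, a2⟩, a3⟩, a4⟩ := hterm
    obtain rfl := Nat.eq_of_beq_eq_true a4
    refine key v' c' j' 1 (Nat.le_of_ble_eq_true a1) (Nat.le_of_ble_eq_true a2) (Nat.eq_of_beq_eq_true a3)
      (one_mem _) ?_
    simp [ChevalleyDatum.commWord, hL, Ok.wG]
  · simp only [Bool.and_eq_true] at hterm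
    obtain ⟨⟨⟨⟨a1, a2⟩, a3⟩, a4⟩, a5⟩ := hterm
    obtain rfl := Nat.eq_of_beq_eq_true a5
    have hlt : v < v' := Nat.le_of_ble_eq_true a2
    have hvn' : v' < D.nroots := Nat.le_of_ble_eq_true a3
    have hv : D.nroots / 2 ≤ v := Nat.le_of_ble_eq_true a1
    set A := (c0 : F) * s ^ 1 * c ^ j
    set A' := (c' : F) * s ^ i' * c ^ j'
    refine key v c0 j ((S.ok.xG v A)⁻¹ * S.ok.xG v' A' * S.ok.xG v A) hv (by omega)
      (Nat.eq_of_beq_eq_true a4) ?_ ?_
    · have h := S.conj_Ugen (F := F) (by omega : v < D.nroots) hv (by omega) (-A)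
        (S.xG_mem_Ugen (show v + 1 ≤ v' by omega) hvn' A')
      rwa [← S.ok.xG_inv, inv_inv] at h
    · rw [← mul_assoc, ← mul_assoc, mul_inv_cancel, one_mul]
      simp [ChevalleyDatum.commWord, hL, Ok.wG, A, A']
  · simp at hterm

/-- The intersection with `B` consists of fixed points. -/
theorem borel_fixed_alg (K : Core D C T) (hr : 0 < D.rank) (p q : ℕ) [Fact p.Prime] [CharP F p] {spec : List ℕ}
    (hG : okGrow D q spec = true) (hqp : q = p ∨ (5 ≤ p ∧ q = 5)) (hP : okPair1 D spec = true)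
    {a : ℕ} (hDn : okDown D a = true)
    (hRH : ratGroup D σ ≤ H) (hU : ∀ g ∈ H, g ∈ D.posUnipotent F → phiG σ D g = g) {g : GL D.Idx F}
    (hgH : g ∈ H) (hgB : g ∈ D.borelSubgroup F) : phiG σ D g = g := by
  have S := K.S
  obtain ⟨t1, t2⟩ := top_lt S hr
  obtain ⟨v, hv, d, hd, rfl⟩ := S.borel_decomp hgB
  have hdf := borel_diag K hRH hU hv hd hgH
  by_cases hex : ∃ u : F, σ u = u ∧ u ≠ 0 ∧ u ≠ 1
  swap
  · push Not at hex
    have hd1 : d = 1 := by
      have hent := (phiG_eq_self σ).1 hdf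
      rw [S.ok.diagonalSubgroup_eq] at hd
      obtain ⟨c, rfl⟩ := hd
      refine Units.ext ?_
      rw [Ok.tG_val, Units.val_one, ← Matrix.diagonal_one]
      congr 1
      funext z
      rcases z with a | s
      · rfl
      · have h := hent (Sum.inr s) (Sum.inr s)
        rw [Ok.tG_val, Matrix.diagonal_apply_eq, Sum.elim_inr] at h
        simp only [Sum.elim_inr]
        exact hex _ h (Units.ne_zero _)
    subst hd1
    rw [mul_one] at hgH ⊢
    exact hU v hgH hv
  obtain ⟨u, huf, hu0, hu1⟩ := hex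
  have hdU : ∀ x ∈ D.posUnipotent F, d * x * d⁻¹ ∈ D.posUnipotent F := by
    intro x hx
    rw [S.posUnipotent_eq] at hx ⊢
    obtain ⟨c, rfl⟩ : ∃ c, Ok.tG D F c = d := by rwa [S.ok.diagonalSubgroup_eq] at hd
    exact tG_conj_Ugen S c hx
  have hdU' : ∀ x ∈ D.posUnipotent F, d⁻¹ * x * d ∈ D.posUnipotent F := by
    intro x hx
    rw [S.posUnipotent_eq] at hx ⊢
    obtain ⟨c, rfl⟩ : ∃ c, Ok.tG D F c = d := by rwa [S.ok.diagonalSubgroup_eq] at hd
    simpa [map_inv] using tG_conj_Ugen S c⁻¹ hx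
  have hφv : phiG σ D v ∈ D.posUnipotent F := by
    rw [S.posUnipotent_eq] at hv ⊢; exact phiG_Ugen σ S hv
  set z := (v * d)⁻¹ * phiG σ D (v * d) with hz
  have hzd : z = d⁻¹ * (v⁻¹ * phiG σ D v) * d := by rw [hz, map_mul, hdf]; group
  have hzU : z ∈ D.posUnipotent F := hzd ▸ hdU' _ (mul_mem (inv_mem hv) hφv)
  have hcomm : ∀ x, x ∈ H → phiG σ D x = x → (v * d) * x * (v * d)⁻¹ * x⁻¹ ∈ D.posUnipotent F →
      z * x = x * z := by
    intro x hxH hxf hxU
    have h := hU _ (mul_mem (mul_mem (mul_mem hgH hxH) (inv_mem hgH)) (inv_mem hxH)) hxU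
    rw [map_mul, map_mul (phiG σ D) (v * d * x), map_mul (phiG σ D) (v * d) x, map_inv, map_inv, hxf] at h
    have h2 := mul_right_cancel h
    calc z * x = (v * d)⁻¹ * (phiG σ D (v * d) * x * (phiG σ D (v * d))⁻¹) * phiG σ D (v * d) := by
          rw [hz]; group
      _ = x * z := by rw [h2, hz]; group
  have hzT : z ∈ S.Ugen F (top D) := by
    refine cent_rat_U K hr p q hG hqp hP hu0 hu1 hzU (fun s hs hsn => ?_) (fun r hrn => ?_)
    · refine hcomm _ (xG_rat_mem S hRH s (map_one σ)) (by rw [phiG_xG σ S, map_one]) ?_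
      rw [show v * d * S.ok.xG s 1 * (v * d)⁻¹ = v * (d * S.ok.xG s 1 * d⁻¹) * v⁻¹ by group]
      exact mul_mem (mul_mem (mul_mem hv (hdU _ (S.xG_mem_U hs hsn 1))) (inv_mem hv))
        (inv_mem (S.xG_mem_U hs hsn 1))
    · have hh : S.ok.hG r u ∈ ratGroup D σ :=
        hG_mem' σ S (fun _ h => xG_rat σ S _ h) (fun _ h => xG_rat σ S _ h) huf
      refine hcomm _ (hRH hh) (rat_fixed σ S _ hh).1 ?_
      have e3 := hG_eq_tG (F := F) S K.hco hrn (Units.mk0 u hu0)
      rw [Units.val_mk0] at e3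
      rw [e3]
      set c' := fun i : Fin D.rank => Units.mk0 u hu0 ^ co D r i.val
      obtain ⟨c, rfl⟩ : ∃ c, Ok.tG D F c = d := by rwa [S.ok.diagonalSubgroup_eq] at hd
      have hc : Ok.tG D F c * Ok.tG D F c' = Ok.tG D F c' * Ok.tG D F c := by
        rw [← map_mul, ← map_mul, mul_comm]
      rw [show v * Ok.tG D F c * Ok.tG D F c' * (v * Ok.tG D F c)⁻¹ * (Ok.tG D F c')⁻¹ =
        v * ((Ok.tG D F c * Ok.tG D F c' * (Ok.tG D F c)⁻¹) * v⁻¹ * (Ok.tG D F c')⁻¹) by group,
        hc, mul_inv_cancel_right]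
      refine mul_mem hv ?_
      have := inv_mem hv
      rw [S.posUnipotent_eq] at this ⊢
      exact tG_conj_Ugen S _ this
  have hvT : v⁻¹ * phiG σ D v ∈ S.Ugen F (top D) := by
    obtain ⟨c, rfl⟩ : ∃ c, Ok.tG D F c = d := by rwa [S.ok.diagonalSubgroup_eq] at hd
    have h := tG_conj_Ugen S c hzT
    rw [hzd] at h
    simpa [mul_assoc] using h
  obtain ⟨m, hm, -, hmW⟩ := strip_rat σ S (S.Ugen F (top D)) (fun k => k = top D)
    (fun k _ hk e t => S.xG_mem_Ugen (le_of_eq e.symm) hk t)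
    (fun k hkp hkn hne t w hw h => lead_zero S hkn hkp hw
      (S.Ugen_mono (show k + 1 ≤ top D by have : k ≤ top D := (by unfold top; omega); omega) h)) v hv hvT
  obtain ⟨s, w, hw, ew⟩ := S.Ugen_split t1 t2 hmW
  rw [S.Ugen_top (by unfold top; omega), Subgroup.mem_bot] at hw
  rw [hw, mul_one] at ew
  have hg' : S.ok.xG (top D) s * d ∈ H := by
    rw [← ew, mul_assoc]
    exact mul_mem (inv_mem (hRH hm)) hgH
  have hs := top_fixed K hr hDn hRH hU hd hdf hg'
  rw [show v = m * S.ok.xG (top D) s by rw [← ew]; group, map_mul, map_mul, (rat_fixed σ S m hm).1,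
    phiG_xG σ S, hs, hdf]

theorem pair1_G2 : okPair1 chevG2 [9] = true := by decide +kernel
theorem pair1_B2 : okPair1 chevB2 [6] = true := by decide +kernel
theorem pair1_F4 : okPair1 chevF4 [44] = true := by decide +kernel
theorem pair1_nil (D : ChevalleyDatum) : okPair1 D [] = true := rfl
theorem down_G2 : okDown chevG2 5 = true := by decide +kernel
theorem down_B2 : okDown chevB2 2 = true := by decide +kernel
theorem down_D4 : okDown chevD4 9 = true := by decide +kernel
theorem down_F4 : okDown chevF4 23 = true := by decide +kernel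
theorem down_E6 : okDown chevE6 25 = true := by decide +kernel
theorem down_E7 : okDown chevE7 32 = true := by decide +kernel
theorem down_E8 : okDown chevE8 119 = true := by decide +kernel

end Cfsg.Lib.Subfield
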