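import Cfsg.Agent.Chev.Subfield.Coset
import Cfsg.Agent.Chev.BorelTits

/-! Normalisers of rational `p`-subgroups lie in rational parabolic subgroups. -/

set_option autoImplicit false

open Cfsg.Lie Cfsg.Lib.Steinberg

namespace Cfsg.Lib.Subfield

open Cfsg.Lib.Chev

variable {D : ChevalleyDatum} {C : Cert} {T : List (List ℤ)} {F : Type*} [Field F]

set_option maxHeartbeats 1000000 in
/-- **Borel–Tits**, rationally. -/
theorem borel_tits_rat (σ : F →+* F) (K : Core D C T)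
    (R : Subgroup (GL D.Idx F)) (hne : R ≠ ⊥) (hfix : ∀ x ∈ R, phiG σ D x = x)
    (hU : ∃ g ∈ D.group F, ∀ x ∈ R, g⁻¹ * x * g ∈ D.posUnipotent F) :
    ∃ m ∈ ratGroup D σ, ∃ J : Set ℕ, (∃ i, i < D.rank ∧ i ∉ J) ∧
      ∀ g ∈ D.group F, g ∈ Subgroup.normalizer (R : Set (GL D.Idx F)) →
        m⁻¹ * g * m ∈ D.parabolicSubgroup F J := by
  classical
  have S := K.S
  have hN := K.hN
  have hT := K.hT
  have hl := K.hl
  obtain ⟨g₀, hg₀, hU₀⟩ := hU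
  let Cand := {c : ↥(D.group F) × Finset (Fin D.nroots) // (∀ r ∈ c.2, D.nroots / 2 ≤ r.val) ∧
    ∀ x ∈ R, (c.1 : GL D.Idx F)⁻¹ * x * c.1 ∈ S.UPsi F (fun r => r ∈ c.2)}
  have hne' : ∀ c : Cand, c.1.2.Nonempty := by
    intro c
    by_contra h
    rw [Finset.not_nonempty_iff_eq_empty] at h
    refine hne ((Subgroup.eq_bot_iff_forall _).2 fun x hx => ?_)
    have h1 := c.2.2 x hx
    rw [h, S.UPsi_eq_bot (fun r _ hr => Finset.notMem_empty r hr), Subgroup.mem_bot] at h1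
    calc x = (c.1.1 : GL D.Idx F) * ((c.1.1 : GL D.Idx F)⁻¹ * x * c.1.1) * (c.1.1 : GL D.Idx F)⁻¹ := by group
      _ = 1 := by rw [h1]; group
  choose v hv hvmin using fun Ψ : {Ψ : Finset (Fin D.nroots) // Ψ.Nonempty} => exists_minPt S (T := T) Ψ.1 Ψ.2
  let Sset := {Ψ : {Ψ : Finset (Fin D.nroots) // Ψ.Nonempty} // ∃ c : Cand, c.1.2 = Ψ.1}
  let Ψ₀ : Finset (Fin D.nroots) := Finset.univ.filter fun r => D.nroots / 2 ≤ r.val
  have hle₀ : S.UPsi F (fun _ => True) ≤ S.UPsi F (fun r => r ∈ Ψ₀) :=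
    S.UPsi_mono fun r a _ => Finset.mem_filter.2 ⟨Finset.mem_univ _, a⟩
  have hc₁ : ∀ x ∈ R, ((⟨g₀, hg₀⟩ : ↥(D.group F)) : GL D.Idx F)⁻¹ * x * (⟨g₀, hg₀⟩ : ↥(D.group F)) ∈
      S.UPsi F (fun r => r ∈ Ψ₀) := fun x hx => hle₀ (S.posUnipotent_le_UPsi (hU₀ x hx))
  haveI : Nonempty Cand :=
    ⟨⟨(⟨g₀, hg₀⟩, Ψ₀), fun r hr => (Finset.mem_filter.1 hr).2, hc₁⟩⟩
  haveI : Nonempty Sset := ⟨⟨⟨_, hne' (Classical.arbitrary Cand)⟩, _, rfl⟩⟩
  obtain ⟨⟨Ψm, cm, hcm⟩, hΨm⟩ := Finite.exists_max fun Ψ : Sset => bF S T (v Ψ.1) (v Ψ.1)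
  let vc : Cand → Fin D.rank → ℝ := fun c => v ⟨c.1.2, hne' c⟩
  have hvc : ∀ c : Cand, vc c ∈ convexHull ℝ (rv (D := D) T '' (c.1.2 : Set (Fin D.nroots))) := fun c => hv ⟨_, hne' c⟩
  have hvcmin := fun c : Cand => hvmin ⟨_, hne' c⟩
  have hcm' : vc cm = v Ψm := congrArg v (Subtype.ext hcm)
  have hc₀ : ∀ c : Cand, bF S T (vc c) (vc c) ≤ bF S T (vc cm) (vc cm) := fun c => by
    rw [hcm']; exact hΨm ⟨⟨_, hne' c⟩, c, rfl⟩
  let c₀ := cm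
  set μ := bF S T (vc c₀) (vc c₀) with hμdef
  have hμ : 0 < μ := by
    refine lt_of_le_of_ne (bF_nonneg S _) fun e => ?_
    have hz := bF_eq_zero S hT e.symm
    obtain ⟨ρ, hρ⟩ := exists_rho S hT
    have h1 : (1 : ℝ) ≤ bF S T (vc c₀) ρ := by
      refine le_bF_of_mem_hull S ?_ (hvc c₀)
      rintro _ ⟨r, hr, rfl⟩
      have hrp := c₀.2.1 r (Finset.mem_coe.1 hr)
      obtain ⟨k, hk, hk0⟩ := exists_ne_zero hl r.isLt
      rw [bF_rv]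
      simp only [hρ, mul_one]
      have h1 : (1 : ℤ) ≤ htAt T r.val k := by have := S.ht_nonneg hT hrp r.isLt hk; omega
      calc (1 : ℝ) ≤ (htAt T r.val k : ℝ) := by exact_mod_cast h1
        _ ≤ ∑ j : Fin D.rank, (htAt T r.val j : ℝ) :=
          Finset.single_le_sum (f := fun j : Fin D.rank => (htAt T r.val j : ℝ))
            (fun j _ => by exact_mod_cast S.ht_nonneg hT hrp r.isLt j.isLt) (Finset.mem_univ ⟨k, hk⟩)
    rw [hz, bF_comm, bF_zero] at h1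
    linarith
  have hmax : ∀ h ∈ D.group F, ∀ Ψ : Finset (Fin D.nroots), (∀ r ∈ Ψ, D.nroots / 2 ≤ r.val) →
      (∀ x ∈ R, h⁻¹ * x * h ∈ S.UPsi F (fun r => r ∈ Ψ)) →
      ∃ w ∈ convexHull ℝ (rv (D := D) T '' (Ψ : Set (Fin D.nroots))), bF S T w w ≤ μ :=
    fun h hh Ψ hp hx => ⟨vc ⟨(⟨h, hh⟩, Ψ), hp, hx⟩, hvc ⟨(⟨h, hh⟩, Ψ), hp, hx⟩, hc₀ ⟨(⟨h, hh⟩, Ψ), hp, hx⟩⟩
  obtain ⟨w, hw, hdom⟩ := exists_dom S hT hl (vc c₀)
  obtain ⟨L, rfl⟩ := S.exists_wpL hw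
  set lam := act S T (S.wpL L) (vc c₀)
  set h₀ := (c₀.1.1 : GL D.Idx F) * (S.nL F L)⁻¹
  have hnG := S.mono_le_group (S.nL_mem_mono (F := F) L)
  have ql : bF S T lam lam = μ := bF_act S hT hl hw _ _
  have o₀ : Opt S T R μ h₀ lam := by
    refine ⟨mul_mem c₀.1.1.2 (inv_mem hnG), hdom, ql, fun x hx => ?_⟩
    have h1 : S.nL F L * ((c₀.1.1 : GL D.Idx F)⁻¹ * x * c₀.1.1) * (S.nL F L)⁻¹ ∈
        S.UPsi F (Psi S T lam μ) := by
      refine Struct.conj_closure_le ?_ _ (c₀.2.2 x hx)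
      rintro u ⟨r, t, -, hr, rfl⟩
      obtain ⟨-, c, -, e⟩ := S.act_nL (F := F) L r
      rw [(e t).1]
      have hge : μ ≤ bF S T (rv T (S.wpL L r)) lam := by
        rw [← act_rv S hT hl hw, bF_act S hT hl hw]; exact hvcmin c₀ r hr
      exact S.mem_UPsi (Dom.pos_of_pos S hT hdom (hμ.trans_le hge)) hge _
    convert h1 using 1
    simp only [h₀, mul_inv_rev, inv_inv, mul_assoc]
  have o₁ : Opt S T R μ (phiG σ D h₀) lam := by
    refine ⟨phiG_group σ S o₀.1, hdom, ql, fun x hx => ?_⟩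
    have h1 := phiG_UPsi σ S (o₀.2.2.2 x hx)
    rwa [map_mul, map_mul, map_inv, hfix x hx] at h1
  set J := orthSet S T lam
  obtain ⟨m, hm, hmP⟩ := coset_rat σ K J o₀.1 (opt_unique S hN hT hl R hμ hmax o₀ o₁)
  refine ⟨m, hm, J, ?_, fun g hg hgn => ?_⟩
  · by_contra hcon
    push Not at hcon
    have h1 : bF S T lam lam = 0 := by
      conv_lhs => arg 3; rw [eq_sum_single lam]
      rw [bF_sum]
      exact Finset.sum_eq_zero fun j _ => by rw [bF_smul', hcon j j.isLt j.isLt, mul_zero]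
    linarith
  · have o₂ : Opt S T R μ (g * h₀) lam := by
      refine ⟨mul_mem hg o₀.1, hdom, ql, fun y hy => ?_⟩
      have h1 := (Subgroup.mem_normalizer_iff.1 (inv_mem hgn) y).1 hy
      rw [inv_inv] at h1
      convert o₀.2.2.2 _ h1 using 1
      group
    rw [show m⁻¹ * g * m = (m⁻¹ * h₀) * (h₀⁻¹ * (g * h₀)) * (m⁻¹ * h₀)⁻¹ by group]
    exact mul_mem (mul_mem hmP (opt_unique S hN hT hl R hμ hmax o₀ o₂)) (inv_mem hmP)

end Cfsg.Lib.Subfield
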