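import Cfsg.Agent.Chev.Subfield.Grow
import Cfsg.Agent.Chev.SL2

/-! The double bond: growing the long root subgroup. -/

set_option autoImplicit false

open Cfsg.Lie

namespace Cfsg.Lib.Subfield

open Cfsg.Lib.Chev

variable {D : ChevalleyDatum} {C : Cert} {T : List (List ℤ)} {F : Type*} [Field F] {σ : F →+* F}
  {H : Subgroup (GL D.Idx F)}

/-- The content of `okB`. -/
structure BSpec (D : ChevalleyDatum) (C : Cert) (B : BData) : Prop where
  ha : D.nroots / 2 ≤ B.a ∧ B.a < D.nroots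
  hb : D.nroots / 2 ≤ B.b ∧ B.b < D.nroots
  hm : D.nroots / 2 ≤ B.m ∧ B.m < top D
  hab : B.a ≠ B.b
  htm : top D ≠ D.neg B.m
  hbm : B.b ≠ B.m
  va : okWord D B.wa = true
  v1 : okWord D B.w1 = true
  v2 : okWord D B.w2 = true
  v3 : okWord D B.w3 = true
  ea : wW C B.wa (top D) = B.a
  e1t : wW C B.w1 (top D) = top D
  e1m : wW C B.w1 B.m = B.b
  e1b : wW C B.w1 B.b = B.m
  e2t : wW C B.w2 (top D) = D.neg B.a
  e2a : wW C B.w2 (D.neg B.a) = top D
  e2b : wW C B.w2 B.b = B.b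
  e3t : wW C B.w3 (top D) = D.neg (top D)
  e3a : wW C B.w3 (D.neg B.a) = D.neg B.a
  cab : ∃ c c' : ℤ, c.natAbs = 1 ∧ c'.natAbs = 1 ∧
    D.commTerms B.a B.b = [(B.m, c, 1, 1), (top D, c', 1, 2)]
  ctn : ∃ c c' : ℤ, c.natAbs = 1 ∧ c'.natAbs = 1 ∧
    D.commTerms (top D) (D.neg B.m) = [(B.b, c, 1, 1), (D.neg B.a, c', 1, 2)]
  cbn : ∀ q ∈ D.commTerms B.b (D.neg B.m), q.2.1.natAbs % 2 = 0
  kmt : okComm D B.m (top D) = true
  kat : okComm D B.a (top D) = true
  kbt : okComm D B.b (top D) = true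
  kba : okComm D B.b (D.neg B.a) = true
  kant : okComm D (D.neg B.a) (top D) = true
  kann : okComm D (D.neg B.a) (D.neg (top D)) = true

theorem bspec {B : BData} (h : okB D C B = true) : BSpec D C B := by
  simp only [okB, Bool.and_eq_true, Bool.not_eq_true', kall_iff] at h
  obtain ⟨⟨⟨⟨⟨⟨⟨⟨⟨⟨⟨⟨⟨⟨⟨⟨⟨⟨⟨⟨⟨⟨⟨⟨⟨⟨⟨⟨⟨⟨a1, a2⟩, b1⟩, b2⟩, m1⟩, m2⟩, n1⟩, n2⟩, va⟩, v1⟩, v2⟩, v3⟩,
    ea⟩, e1t⟩, e1m⟩, e1b⟩, e2t⟩, e2a⟩, e2b⟩, e3t⟩, e3a⟩, t1⟩, t2⟩, t3⟩, n3⟩, k1⟩, k2⟩, k3⟩, k4⟩, k5⟩, k6⟩ := h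
  refine ⟨⟨Nat.le_of_ble_eq_true a1, Nat.le_of_ble_eq_true a2⟩, ⟨Nat.le_of_ble_eq_true b1, Nat.le_of_ble_eq_true b2⟩,
    ⟨Nat.le_of_ble_eq_true m1, Nat.le_of_ble_eq_true m2⟩, Nat.ne_of_beq_eq_false n1, Nat.ne_of_beq_eq_false n2,
    Nat.ne_of_beq_eq_false n3, va, v1, v2, v3, Nat.eq_of_beq_eq_true ea, Nat.eq_of_beq_eq_true e1t,
    Nat.eq_of_beq_eq_true e1m, Nat.eq_of_beq_eq_true e1b, Nat.eq_of_beq_eq_true e2t, Nat.eq_of_beq_eq_true e2a,
    Nat.eq_of_beq_eq_true e2b, Nat.eq_of_beq_eq_true e3t, Nat.eq_of_beq_eq_true e3a, ?_, ?_,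
    fun q hq => Nat.eq_of_beq_eq_true (t3 q hq), k1, k2, k3, k4, k5, k6⟩
  · generalize D.commTerms B.a B.b = L at t1
    rcases L with _ | ⟨⟨v, c, i, j⟩, _ | ⟨⟨v', c', i', j'⟩, _ | ⟨z, L⟩⟩⟩
    · simp at t1
    · simp at t1
    · simp only [Bool.and_eq_true] at t1
      obtain ⟨⟨⟨⟨⟨⟨⟨q1, q2⟩, q3⟩, q4⟩, q5⟩, q6⟩, q7⟩, q8⟩ := t1
      exact ⟨c, c', Nat.eq_of_beq_eq_true q2, Nat.eq_of_beq_eq_true q6, by
        rw [Nat.eq_of_beq_eq_true q1, Nat.eq_of_beq_eq_true q3, Nat.eq_of_beq_eq_true q4,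
          Nat.eq_of_beq_eq_true q5, Nat.eq_of_beq_eq_true q7, Nat.eq_of_beq_eq_true q8]⟩
    · simp at t1
  · generalize D.commTerms (top D) (D.neg B.m) = L at t2
    rcases L with _ | ⟨⟨v, c, i, j⟩, _ | ⟨⟨v', c', i', j'⟩, _ | ⟨z, L⟩⟩⟩
    · simp at t2
    · simp at t2
    · simp only [Bool.and_eq_true] at t2
      obtain ⟨⟨⟨⟨⟨⟨⟨q1, q2⟩, q3⟩, q4⟩, q5⟩, q6⟩, q7⟩, q8⟩ := t2
      exact ⟨c, c', Nat.eq_of_beq_eq_true q2, Nat.eq_of_beq_eq_true q6, by
        rw [Nat.eq_of_beq_eq_true q1, Nat.eq_of_beq_eq_true q3, Nat.eq_of_beq_eq_true q4,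
          Nat.eq_of_beq_eq_true q5, Nat.eq_of_beq_eq_true q7, Nat.eq_of_beq_eq_true q8]⟩
    · simp at t2

theorem okComm_xG (S : Struct D C) {r s : ℕ} (h : okComm D r s = true) (t u : F) :
    Commute (S.ok.xG r t) (S.ok.xG s u) := by
  simp only [okComm, Bool.and_eq_true, Bool.not_eq_true'] at h
  exact commutes_xG S (Nat.le_of_ble_eq_true h.1.1.1) (Nat.le_of_ble_eq_true h.1.1.2) h.1.2
    (Nat.ne_of_beq_eq_false h.2) t u

/-- The parameters of products of elements of two commuting root subgroups. -/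
def pairs (S : Struct D C) (H : Subgroup (GL D.Idx F)) {r s : ℕ} (h : okComm D r s = true) :
    AddSubgroup (F × F) where
  carrier := {z | S.ok.xG r z.1 * S.ok.xG s z.2 ∈ H}
  zero_mem' := by
    show S.ok.xG r 0 * S.ok.xG s 0 ∈ H
    rw [S.xG_zero, S.xG_zero, mul_one]
    exact one_mem _
  add_mem' := fun {a b} ha hb => by
    show S.ok.xG r (a.1 + b.1) * S.ok.xG s (a.2 + b.2) ∈ H
    rw [← S.ok.xG_mul, ← S.ok.xG_mul, (okComm_xG S h b.1 a.2).mul_mul_mul_comm]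
    · exact mul_mem ha hb
  neg_mem' := fun {a} ha => by
    show S.ok.xG r (-a.1) * S.ok.xG s (-a.2) ∈ H
    rw [← S.ok.xG_inv, ← S.ok.xG_inv, ((okComm_xG S h a.1 a.2).inv_left.inv_right).eq, ← mul_inv_rev]
    exact inv_mem ha

theorem pairs_snd (S : Struct D C) {r s : ℕ} (h : okComm D r s = true) {y : F}
    (hy : ((0 : F), y) ∈ pairs S H h) : y ∈ params S H s := by
  have : S.ok.xG r 0 * S.ok.xG s y ∈ H := hy
  rwa [S.xG_zero, one_mul] at this

/-- Moving a product of two root elements. -/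
theorem move_pair (S : Struct D C) (hRH : ratGroup D σ ≤ H) {W : List ℕ}
    (hW : okWord D W = true) {r s : ℕ} (hr : r < D.nroots) (hs : s < D.nroots) {x y : F}
    (h : S.ok.xG r x * S.ok.xG s y ∈ H) :
    ∃ η ξ : F, IsSign η ∧ IsSign ξ ∧
      S.ok.xG (wW C W r) (η * x) * S.ok.xG (wW C W s) (ξ * y) ∈ H := by
  obtain ⟨n, hn, hmv⟩ := move (F := F) (σ := σ) S hRH hW
  obtain ⟨-, η, hη, e⟩ := hmv r hr
  obtain ⟨-, ξ, hξ, e'⟩ := hmv s hs
  refine ⟨η, ξ, hη, hξ, ?_⟩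
  rw [← e, ← e', show n * S.ok.xG r x * n⁻¹ * (n * S.ok.xG s y * n⁻¹) =
    n * (S.ok.xG r x * S.ok.xG s y) * n⁻¹ by group]
  exact mul_mem (mul_mem hn h) (inv_mem hn)

theorem move_pair_two (S : Struct D C) [CharP F 2] (hRH : ratGroup D σ ≤ H) {W : List ℕ}
    (hW : okWord D W = true) {r s : ℕ} (hr : r < D.nroots) (hs : s < D.nroots) {x y : F}
    (h : S.ok.xG r x * S.ok.xG s y ∈ H) :
    S.ok.xG (wW C W r) x * S.ok.xG (wW C W s) y ∈ H := by
  obtain ⟨η, ξ, hη, hξ, h'⟩ := move_pair S hRH hW hr hs h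
  have one : ∀ z : F, IsSign z → z = 1 := fun z hz => by
    rcases hz with rfl | rfl
    · rfl
    · exact CharTwo.neg_eq 1
  rwa [one η hη, one ξ hξ, one_mul, one_mul] at h'

/-- The commutator of the long and the short root. -/
theorem comm_ab (S : Struct D C) {B : BData} (hB : BSpec D C B) : ∃ c c' : F, IsSign c ∧ IsSign c' ∧
    (∀ t u : F, (S.ok.xG B.b u)⁻¹ * (S.ok.xG B.a t * S.ok.xG B.b u * (S.ok.xG B.a t)⁻¹) =
      S.ok.xG B.m (c * t * u) * S.ok.xG (top D) (c' * t * u ^ 2)) ∧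
    ∀ x y t : F, S.ok.xG B.b x * S.ok.xG (top D) y ∈ H → S.ok.xG B.a t ∈ H →
      S.ok.xG B.m (c * t * x) * S.ok.xG (top D) (c' * t * x ^ 2) ∈ H := by
  obtain ⟨c, c', hc, hc', hterm⟩ := hB.cab
  have hne : B.b ≠ D.neg B.a := by have := S.neg_lt_half hB.ha.2 hB.ha.1; have := hB.hb.1; omega
  have key : ∀ t u : F, (S.ok.xG B.b u)⁻¹ * (S.ok.xG B.a t * S.ok.xG B.b u * (S.ok.xG B.a t)⁻¹) =
      S.ok.xG B.m ((c : F) * t * u) * S.ok.xG (top D) ((c' : F) * t * u ^ 2) := by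
    intro t u
    rw [conj_eq S hB.ha.2 hB.hb.2 hB.hab.symm hne, inv_mul_cancel_left]
    simp [ChevalleyDatum.commWord, hterm, Ok.wG]
  refine ⟨c, c', sign_of_natAbs hc, sign_of_natAbs hc', key, fun x y t hg ht => ?_⟩
  rw [← key]
  have h := mul_mem (inv_mem hg) (mul_mem (mul_mem ht hg) (inv_mem ht))
  have e1 := okComm_xG S hB.kat t y
  have e2 := okComm_xG S hB.kbt x y
  rw [show (S.ok.xG B.b x * S.ok.xG (top D) y)⁻¹ *
      (S.ok.xG B.a t * (S.ok.xG B.b x * S.ok.xG (top D) y) * (S.ok.xG B.a t)⁻¹) =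
      (S.ok.xG B.b x)⁻¹ * (S.ok.xG B.a t * S.ok.xG B.b x * (S.ok.xG B.a t)⁻¹) by
    rw [e2.eq, mul_inv_rev, ← mul_assoc (S.ok.xG B.a t), e1.eq]
    group] at h
  exact h

/-- Odd characteristic. -/
theorem long_mul_B_odd (K : Core D C T) (hr : 0 < D.rank) (p : ℕ) [Fact p.Prime] [CharP F p] (hp : p ≠ 2)
    (hRH : ratGroup D σ ≤ H) {B : BData} (hok : okB D C B = true) :
    ∀ x ∈ params K.S H (top D), ∀ y ∈ params K.S H (top D), x * y ∈ params K.S H (top D) := by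
  have S := K.S
  have hB := bspec hok
  obtain ⟨t1, t2⟩ := top_lt S hr
  have hm : B.m < D.nroots := by have := hB.hm.2; omega
  set A := params S H (top D)
  have hkA : ∀ x, σ x = x → x ∈ A := fun x hx => xG_rat_mem S hRH _ hx
  have ea : A = params S H B.a := by
    show params S H (top D) = _
    rw [params_move S hRH hB.va t1, hB.ea]
  obtain ⟨c, c', hc, hc', key, key2⟩ := comm_ab (F := F) (H := H) S hB
  have hsq : ∀ s ∈ A, s ^ 2 ∈ A := by
    intro s hs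
    have hs' : S.ok.xG B.a s ∈ H := mem_params.1 (show s ∈ params S H B.a from ea ▸ hs)
    have h1b := xG_rat_mem (σ := σ) S hRH B.b (map_one σ)
    have h1 : S.ok.xG B.m (c * s) * S.ok.xG (top D) (c' * s) ∈ H := by
      have h := mul_mem (inv_mem h1b) (mul_mem (mul_mem hs' h1b) (inv_mem hs'))
      rwa [key, mul_one, one_pow, mul_one] at h
    obtain ⟨η, ξ, hη, -, h2⟩ := move_pair S hRH hB.v1 hm t1 h1
    rw [hB.e1m, hB.e1t] at h2
    have h3 := key2 _ _ 1 h2 (xG_rat_mem S hRH B.a (map_one σ))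
    rw [mul_one, mul_one] at h3
    have p1 : (c * s, c' * s) ∈ pairs S H hB.kmt := h1
    have p2 : (c * (η * (c * s)), c' * (η * (c * s)) ^ 2) ∈ pairs S H hB.kmt := h3
    have e1 : c * (η * (c * s)) = η * s := by linear_combination η * s * hc.mul_self
    have e2 : c' * (η * (c * s)) ^ 2 = c' * s ^ 2 := by
      linear_combination c' * s ^ 2 * (c * c * hη.mul_self + hc.mul_self)
    rw [e1, e2] at p2
    have hcc : ∀ a : F, IsSign a → ∀ z ∈ A, a * z ∈ A := fun a ha z hz => by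
      rcases ha with rfl | rfl
      · simpa using hz
      · simpa using neg_mem hz
    have h4 : c' * s ^ 2 - c * η * (c' * s) ∈ A := by
      refine pairs_snd S hB.kmt ?_
      rcases hc.mul hη with h | h
      · have hp := sub_mem p2 p1
        rw [Prod.mk_sub_mk] at hp
        rw [h, one_mul]
        convert hp using 2
        linear_combination -s * c * h + s * η * hc.mul_self
      · have hp := add_mem p2 p1
        rw [Prod.mk_add_mk] at hp
        rw [h, neg_one_mul, sub_neg_eq_add]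
        convert hp using 2
        linear_combination -s * c * h + s * η * hc.mul_self
    have h5 := hcc c' hc' _ (add_mem h4 (hcc _ (hc.mul hη) _ (hcc c' hc' s hs)))
    rwa [sub_add_cancel, ← mul_assoc, hc'.mul_self, one_mul] at h5
  have hodd := ((Fact.out : p.Prime).odd_of_ne_two hp)
  obtain ⟨n, hn⟩ := hodd
  have hhalf : ∀ z, (2 : F) * z ∈ A → z ∈ A := by
    intro z hz
    have h := nsmul_mem hz (n + 1)
    rw [nsmul_eq_mul] at h
    have e : ((n + 1 : ℕ) : F) * (2 * z) = z := by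
      have hp0 : ((2 * n + 1 : ℕ) : F) = 0 := by rw [← hn]; exact CharP.cast_eq_zero F p
      push_cast at hp0 ⊢
      linear_combination z * hp0
    rwa [e] at h
  intro x hx y hy
  refine hhalf _ ?_
  have := sub_mem (sub_mem (hsq _ (add_mem hx hy)) (hsq x hx)) (hsq y hy)
  convert this using 1
  ring

theorem sl2_word [CharP F 2] {z : F} (hz : z ^ 2 = z + 1) :
    lM (1 : F) * uM 1 * (uM z * lM z) * (uM z * lM z) = uM (z + 1) := by
  have h2 : (2 : F) = 0 := CharTwo.two_eq_zero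
  refine mat_inj ?_
  ext i j
  fin_cases i <;> fin_cases j <;> simp [mat_mul, mat_uM, mat_lM, Matrix.mul_apply, Fin.sum_univ_two] <;> grind

/-- Characteristic two: the long parameters form a field, and contain the parameters of the short coordinate. -/
theorem long_field_B_two (K : Core D C T) (hr : 0 < D.rank) [CharP F 2] [Finite H]
    (hRH : ratGroup D σ ≤ H) {B : BData} (hok : okB D C B = true) :
    (∀ x ∈ params K.S H (top D), ∀ y ∈ params K.S H (top D), x * y ∈ params K.S H (top D)) ∧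
      ∀ x y, K.S.ok.xG B.m x * K.S.ok.xG (top D) y ∈ H → x ∈ params K.S H (top D) := by
  haveI : Fact (Nat.Prime 2) := ⟨Nat.prime_two⟩
  have S := K.S
  have hB := bspec hok
  obtain ⟨t1, t2⟩ := top_lt S hr
  have hm : B.m < D.nroots := by have := hB.hm.2; omega
  have h2 : (2 : F) = 0 := CharTwo.two_eq_zero
  set A := params S H (top D)
  set P := pairs S H hB.kmt
  have hkA : ∀ x, σ x = x → x ∈ A := fun x hx => xG_rat_mem S hRH _ hx
  have ea : A = params S H B.a := by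
    show params S H (top D) = _
    rw [params_move S hRH hB.va t1, hB.ea]
  have haA : ∀ t ∈ A, S.ok.xG B.a t ∈ H := fun t ht => mem_params.1 (show t ∈ params S H B.a from ea ▸ ht)
  obtain ⟨c, c', hc, hc', key, key2⟩ := comm_ab (F := F) (H := H) S hB
  have one : ∀ z : F, IsSign z → z = 1 := fun z hz => by
    rcases hz with rfl | rfl
    · rfl
    · exact CharTwo.neg_eq 1
  obtain rfl : c = 1 := one _ hc
  obtain rfl : c' = 1 := one _ hc'
  have r1 : ∀ t ∈ A, (t, t) ∈ P := fun t ht => by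
    have h1b := xG_rat_mem (σ := σ) S hRH B.b (map_one σ)
    have h := mul_mem (inv_mem h1b) (mul_mem (mul_mem (haA t ht) h1b) (inv_mem (haA t ht)))
    rw [key, one_mul, mul_one, one_pow, mul_one] at h
    exact h
  have r3 : ∀ t ∈ A, ∀ x y, (x, y) ∈ P → (t * x, t * x ^ 2) ∈ P := fun t ht x y hxy => by
    have h := move_pair_two S hRH hB.v1 hm t1 (show S.ok.xG B.m x * S.ok.xG (top D) y ∈ H from hxy)
    rw [hB.e1m, hB.e1t] at h
    have h' := key2 x y t h (haA t ht)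
    simp only [one_mul] at h'
    exact h'
  have r2 : ∀ x y, (x, y) ∈ P → (x, x ^ 2) ∈ P := fun x y h => by
    simpa using r3 1 (hkA 1 (map_one σ)) x y h
  let X : AddSubgroup F := P.map (AddMonoidHom.fst F F)
  have hX : ∀ {x : F}, x ∈ X ↔ ∃ y, (x, y) ∈ P := by
    intro x
    exact ⟨fun ⟨z, hz, e⟩ => ⟨z.2, by rw [← e]; exact hz⟩, fun ⟨y, hy⟩ => ⟨(x, y), hy, rfl⟩⟩
  have hcl : ∀ t ∈ A, ∀ x ∈ X, (t + t ^ 2) * x ^ 2 ∈ A := fun t ht x hx => by
    obtain ⟨y, hy⟩ := hX.1 hx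
    have a1 := r3 t ht x y hy
    have a2 := r2 _ _ a1
    have h := add_mem a1 a2
    rw [Prod.mk_add_mk, show t * x + t * x = 0 by linear_combination t * x * h2] at h
    have h' := pairs_snd S hB.kmt h
    rwa [show t * x ^ 2 + (t * x) ^ 2 = (t + t ^ 2) * x ^ 2 by ring] at h'
  have hAX : ∀ s ∈ A, s ∈ X := fun s hs => hX.2 ⟨_, r1 s hs⟩
  by_cases hq : ∃ e ∈ A, e + e ^ 2 ≠ 0
  · obtain ⟨e, he, he0⟩ := hq
    have hmulX : ∀ s ∈ A, ∀ x ∈ X, s * x ∈ X := fun s hs x hx => by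
      obtain ⟨y, hy⟩ := hX.1 hx
      exact hX.2 ⟨_, r3 s hs x y hy⟩
    let R : Subring F :=
      { carrier := {s | ∀ x ∈ X, s * x ∈ X}
        mul_mem' := fun {a b} ha hb x hx => by rw [mul_assoc]; exact ha _ (hb x hx)
        one_mem' := fun x hx => by rwa [one_mul]
        add_mem' := fun {a b} ha hb x hx => by rw [add_mul]; exact add_mem (ha x hx) (hb x hx)
        zero_mem' := fun x _ => by rw [zero_mul]; exact zero_mem X
        neg_mem' := fun {a} ha x hx => by rw [neg_mul]; exact neg_mem (ha x hx) }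
    have hAR : ∀ s ∈ A, s ∈ R := fun s hs => hmulX s hs
    have hRX : ∀ s ∈ R, s ∈ X := fun s hs => by simpa using hs 1 (hAX 1 (hkA 1 (map_one σ)))
    have hXfin : (X : Set F).Finite := by
      have hfin : (P : Set (F × F)).Finite := by
        refine Set.finite_coe_iff.1 (Finite.of_injective
          (fun z : (P : Set (F × F)) => (⟨S.ok.xG B.m z.1.1 * S.ok.xG (top D) z.1.2, z.2⟩ : H)) fun z w h => ?_)
        have h' : S.ok.xG B.m z.1.1 * S.ok.xG (top D) z.1.2 = S.ok.xG B.m w.1.1 * S.ok.xG (top D) w.1.2 :=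
          congrArg Subtype.val h
        have e1 : z.1.1 = w.1.1 := lead_eq S hm hB.hm.1 (S.xG_mem_Ugen (Nat.succ_le_of_lt hB.hm.2) t1 _)
          (S.xG_mem_Ugen (Nat.succ_le_of_lt hB.hm.2) t1 _) h'
        rw [e1] at h'
        exact Subtype.ext (Prod.ext e1 (S.xG_left_inj t1 (mul_left_cancel h')))
      exact (hfin.image Prod.fst).subset fun x hx => by
        obtain ⟨y, hy⟩ := hX.1 hx
        exact ⟨(x, y), hy, rfl⟩
    have hRfin : (R : Set F).Finite := hXfin.subset hRX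
    have hd : e + e ^ 2 ∈ R := R.add_mem (hAR e he) (pow_mem (hAR e he) 2)
    have hRA : ∀ z ∈ R, z ∈ A := fun z hz => by
      obtain ⟨x, hxR, hx⟩ := pow_char_surj_finite hRfin 2 (R.mul_mem (inv_mem_finite hRfin hd) hz)
      have h := hcl e he x (hRX x hxR)
      rwa [hx, mul_inv_cancel_left₀ he0] at h
    refine ⟨fun x hx y hy => hRA _ (R.mul_mem (hAR x hx) (hAR y hy)), fun x y hxy => ?_⟩
    have h1 := hAR _ (hcl e he x (hX.2 ⟨y, hxy⟩))
    have h2' : x ^ 2 ∈ R := by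
      have := R.mul_mem (inv_mem_finite hRfin hd) h1
      rwa [inv_mul_cancel_left₀ he0] at this
    obtain ⟨w, hw, hwx⟩ := pow_char_surj_finite hRfin 2 h2'
    exact hRA x (frobenius_inj F 2 (show frobenius F 2 w = frobenius F 2 x from hwx) ▸ hw)
  push Not at hq
  have hA01 : ∀ e ∈ A, e = 0 ∨ e = 1 := fun e he => by
    rcases mul_eq_zero.1 (show e * (1 + e) = 0 by linear_combination hq e he) with h | h
    · exact Or.inl h
    · exact Or.inr (by linear_combination h - h2)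
  refine ⟨fun x hx y hy => ?_, fun x y hxy => ?_⟩
  · rcases hA01 x hx with rfl | rfl
    · rw [zero_mul]; exact zero_mem A
    · rwa [one_mul]
  rcases eq_or_ne x 0 with rfl | hx0
  · exact zero_mem A
  rcases eq_or_ne x 1 with rfl | hx1
  · exact hkA 1 (map_one σ)
  exfalso
  -- the fixed field has two elements
  obtain ⟨cn, cn', hcn, hcn', hterm⟩ := hB.ctn
  obtain ⟨hbn, -⟩ := S.neg_neg' hm
  obtain ⟨han, -⟩ := S.neg_neg' hB.ha.2
  have hu : ∀ a b : F, S.ok.xG B.b a * S.ok.xG (top D) b ∈ H → S.ok.xG B.b b * S.ok.xG (D.neg B.a) b ∈ H := by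
    intro a b hg
    have hcb : Commute (S.ok.xG B.b a) (S.ok.xG (D.neg B.m) 1) := by
      have hne : D.neg B.m ≠ D.neg B.b := fun e => hB.hbm (by
        rw [← (S.neg_neg' hB.hb.2).2, ← e, (S.neg_neg' hm).2])
      have hne2 : D.neg B.m ≠ B.b := by
        have := S.neg_lt_half hm hB.hm.1; have := hB.hb.1; omega
      have e := conj_eq S hB.hb.2 hbn hne2 hne a (1 : F)
      have hw : S.ok.wG (D.commWord F B.b (D.neg B.m) (-a) 1) = 1 := by
        refine List.prod_eq_one fun g hg => ?_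
        simp only [ChevalleyDatum.commWord, List.map_map, List.mem_map] at hg
        obtain ⟨q, hq, rfl⟩ := hg
        have hc : (q.2.1 : F) = 0 := by
          rw [CharP.intCast_eq_zero_iff F 2, Int.natCast_dvd]
          exact Nat.dvd_of_mod_eq_zero (hB.cbn q hq)
        simp [hc, S.xG_zero]
      rw [hw, mul_one] at e
      exact mul_inv_eq_iff_eq_mul.1 e
    have hx1 := xG_rat_mem (σ := σ) S hRH (D.neg B.m) (map_one σ)
    have h := mul_mem (inv_mem hx1) (mul_mem (mul_mem hg hx1) (inv_mem hg))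
    have e := conj_eq S t1 hbn (by
      have := S.neg_lt_half hm hB.hm.1; omega) (fun e => by
      have := (S.order_row hm).1; have := (S.order_row t1).1; have := hB.hm.2; omega) b (1 : F)
    have ew : S.ok.wG (D.commWord F (top D) (D.neg B.m) (-b) 1) = S.ok.xG B.b b * S.ok.xG (D.neg B.a) b := by
      simp [ChevalleyDatum.commWord, hterm, Ok.wG, one _ (sign_of_natAbs hcn), one _ (sign_of_natAbs hcn')]
    have hc2 : Commute (S.ok.xG B.b a) (S.ok.xG B.b b * S.ok.xG (D.neg B.a) b) :=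
      (show Commute (S.ok.xG B.b a) (S.ok.xG B.b b) by
        show _ = _; rw [S.ok.xG_mul, S.ok.xG_mul, add_comm]).mul_right (okComm_xG S hB.kba a b)
    rw [show S.ok.xG B.b a * S.ok.xG (top D) b * S.ok.xG (D.neg B.m) 1 * (S.ok.xG B.b a * S.ok.xG (top D) b)⁻¹ =
      S.ok.xG B.b a * (S.ok.xG (top D) b * S.ok.xG (D.neg B.m) 1 * (S.ok.xG (top D) b)⁻¹) * (S.ok.xG B.b a)⁻¹ by
        group, e, ew, (hcb.mul_right hc2).eq, mul_inv_cancel_right, inv_mul_cancel_left] at h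
    exact h
  have p1 := move_pair_two S hRH hB.v1 hm t1 (show S.ok.xG B.m x * S.ok.xG (top D) (x ^ 2) ∈ H from r2 x y hxy)
  rw [hB.e1m, hB.e1t] at p1
  have p2 := move_pair_two S hRH hB.v2 hB.hb.2 han (hu _ _ p1)
  rw [hB.e2b, hB.e2a] at p2
  have p3 := move_pair_two S hRH hB.v1 hB.hb.2 t1 p2
  rw [hB.e1b, hB.e1t] at p3
  have hA : x ^ 2 + (x ^ 2) ^ 2 ∈ A := by
    have h := add_mem (show (x ^ 2, x ^ 2) ∈ P from p3) (r2 _ _ (show (x ^ 2, x ^ 2) ∈ P from p3))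
    rw [Prod.mk_add_mk, show x ^ 2 + x ^ 2 = 0 by linear_combination x ^ 2 * h2] at h
    exact pairs_snd S hB.kmt h
  set z := x ^ 2 with hzdef
  have hz0 : z ≠ 0 := pow_ne_zero 2 hx0
  have hz1 : z + 1 ≠ 0 := fun h => hx1 (by
    have : (x + 1) ^ 2 = 0 := by linear_combination h + x * h2 - hzdef
    linear_combination (sq_eq_zero_iff.1 this) - h2)
  have hz2 : z ^ 2 = z + 1 := by
    rcases hA01 _ hA with h | h
    · exfalso
      rcases mul_eq_zero.1 (show z * (z + 1) = 0 by linear_combination h) with h' | h'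
      · exact hz0 h'
      · exact hz1 h'
    · linear_combination h - z * h2
  have q1 := move_pair_two S hRH hB.v2 hB.hb.2 t1 p1
  rw [hB.e2b, hB.e2t] at q1
  have q2 : S.ok.xG (D.neg B.a) z * S.ok.xG (top D) z ∈ H := by
    have h := mul_mem (inv_mem q1) p1
    rwa [show (S.ok.xG B.b x * S.ok.xG (D.neg B.a) z)⁻¹ * (S.ok.xG B.b x * S.ok.xG (top D) z) =
      (S.ok.xG (D.neg B.a) z)⁻¹ * S.ok.xG (top D) z by group, S.ok.xG_inv, CharTwo.neg_eq] at h
  have q3 := move_pair_two S hRH hB.v3 han t1 q2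
  rw [hB.e3a, hB.e3t] at q3
  have q4 : S.ok.xG (top D) z * S.ok.xG (D.neg (top D)) z ∈ H := by
    rw [(okComm_xG S hB.kant z z).eq] at q2
    have h := mul_mem q2 q3
    rwa [show S.ok.xG (top D) z * S.ok.xG (D.neg B.a) z *
        (S.ok.xG (D.neg B.a) z * S.ok.xG (D.neg (top D)) z) =
      S.ok.xG (top D) z * (S.ok.xG (D.neg B.a) z * S.ok.xG (D.neg B.a) z) * S.ok.xG (D.neg (top D)) z by group,
      S.ok.xG_mul, show z + z = 0 by linear_combination z * h2, S.xG_zero, mul_one] at h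
  obtain ⟨φ, hφu, hφl, -⟩ := S.hasSL2 (F := F) (top D) t1
  have hmem : z + 1 ∈ A := by
    have h : φ (lM 1 * uM 1 * (uM z * lM z) * (uM z * lM z)) ∈ H := by
      simp only [map_mul, hφu, hφl]
      exact mul_mem (mul_mem (mul_mem (xG_rat_mem S hRH _ (map_one σ)) (xG_rat_mem S hRH _ (map_one σ))) q4) q4
    rw [sl2_word hz2, hφu] at h
    exact h
  rcases hA01 _ hmem with h | h
  · exact hz1 h
  · exact hz0 (by linear_combination h)

end Cfsg.Lib.Subfield
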