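import Cfsg.Agent.Chev.Subfield.SpecialG
import Cfsg.Agent.Chev.Subfield.SpecialB

/-! An irrational unipotent element of an overgroup: the four kinds of diagrams. -/

set_option autoImplicit false

open Cfsg.Lie

namespace Cfsg.Lib.Subfield

open Cfsg.Lib.Chev

variable {F : Type*} [Field F] {D : ChevalleyDatum} {C : Cert} {T : List (List ℤ)}

/-- The long parameters of a finite overgroup are closed under products, and an irrational point of `H ∩ U`
gives an irrational long parameter. -/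
structure CaseA (D : ChevalleyDatum) (C : Cert) (T : List (List ℤ)) (F : Type*) [Field F] : Prop where
  mul : ∀ (σ : F →+* F) (K : Core D C T) (H : Subgroup (GL D.Idx F)) [Finite H], ratGroup D σ ≤ H →
    ∀ x ∈ params K.S H (top D), ∀ y ∈ params K.S H (top D), x * y ∈ params K.S H (top D)
  lift : ∀ (σ : F →+* F) (K : Core D C T) (H : Subgroup (GL D.Idx F)) [Finite H], ratGroup D σ ≤ H →
    (∃ u ∈ H, u ∈ D.posUnipotent F ∧ phiG σ D u ≠ u) →
      ∃ t, σ t ≠ t ∧ K.S.ok.xG (top D) t ∈ H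

theorem grow_char (σ : F →+* F) (p : ℕ) [Fact p.Prime] [CharP F p] {sp2 sp3 : List ℕ}
    (hG : okGrow D 2 sp2 = true ∧ okGrow D 3 sp3 = true ∧ okGrow D 5 [] = true)
    (h2 : sp2.length ≤ 1) (h3 : sp3.length ≤ 1) (K : Core D C T) (hr : 0 < D.rank)
    {H : Subgroup (GL D.Idx F)} (hRH : ratGroup D σ ≤ H)
    (hne : ∃ u ∈ H, u ∈ D.posUnipotent F ∧ phiG σ D u ≠ u) :
    (∃ t, σ t ≠ t ∧ K.S.ok.xG (top D) t ∈ H) ∨
      (p = 2 ∧ ∃ k ∈ sp2, ∃ t s, σ t ≠ t ∧ K.S.ok.xG k t * K.S.ok.xG (top D) s ∈ H) ∨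
      (p = 3 ∧ ∃ k ∈ sp3, ∃ t s, σ t ≠ t ∧ K.S.ok.xG k t * K.S.ok.xG (top D) s ∈ H) := by
  rcases eq_or_ne p 2 with rfl | hp2
  · rcases grow K hr 2 2 hG.1 (Or.inl rfl) h2 (fun _ => rfl) hRH hne with h | h
    · exact Or.inl h
    · exact Or.inr (Or.inl ⟨rfl, h⟩)
  rcases eq_or_ne p 3 with rfl | hp3
  · rcases grow K hr 3 3 hG.2.1 (Or.inl rfl) h3 (fun _ => rfl) hRH hne with h | h
    · exact Or.inl h
    · exact Or.inr (Or.inr ⟨rfl, h⟩)
  have h5 : 5 ≤ p := by
    have hp := (Fact.out : p.Prime)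
    by_contra hlt
    have := hp.two_le
    interval_cases p <;> simp_all <;> norm_num at hp
  rcases grow K hr p 5 hG.2.2 (Or.inr ⟨h5, rfl⟩) (by simp) (by simp) hRH hne with h | ⟨k, hk, -⟩
  · exact Or.inl h
  · simp at hk

/-- Simply laced. -/
theorem caseA_simply (p : ℕ) [Fact p.Prime] [CharP F p]
    (hG : okGrow D 2 [] = true ∧ okGrow D 3 [] = true ∧ okGrow D 5 [] = true) (hr : 0 < D.rank)
    {Ws : List (List ℕ)} {k : ℕ} (hA : okA2 D C Ws k = true) (hWs : ∀ W ∈ Ws, okWord D W = true) :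
    CaseA D C T F := by
  refine ⟨fun σ K H _ hRH => long_mul_A2 K hr hA hWs hRH, fun σ K H _ hRH hne => ?_⟩
  rcases grow_char σ p hG (by simp) (by simp) K hr hRH hne with h | ⟨-, k, hk, -⟩ | ⟨-, k, hk, -⟩
  · exact h
  · simp at hk
  · simp at hk

/-- A triple bond. -/
theorem caseA_G (p : ℕ) [Fact p.Prime] [CharP F p] {s : ℕ}
    (hG : okGrow D 2 [] = true ∧ okGrow D 3 [s] = true ∧ okGrow D 5 [] = true) (hr : 0 < D.rank)
    {Ws : List (List ℕ)} {k : ℕ} (hA : okA2 D C Ws k = true) (hWs : ∀ W ∈ Ws, okWord D W = true)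
    {w v z : List ℕ} (hg : okG D C s w v = true) (hz : okWord D z = true) (hzs : wW C z s = D.neg s) :
    CaseA D C T F := by
  refine ⟨fun σ K H _ hRH => long_mul_A2 K hr hA hWs hRH, fun σ K H _ hRH hne => ?_⟩
  rcases grow_char σ p hG (by simp) (by simp) K hr hRH hne with h | ⟨-, k, hk, -⟩ | ⟨rfl, k, hk, t, e, ht, hu⟩
  · exact h
  · simp at hk
  · rw [List.mem_singleton.1 hk] at hu
    exact ⟨t, ht, short_param_G K hr hRH hg hz hzs hu⟩

/-- A double bond, with long roots spanning an `A₂`. -/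
theorem caseA_F (p : ℕ) [Fact p.Prime] [CharP F p] {B : BData}
    (hG : okGrow D 2 [B.m] = true ∧ okGrow D 3 [] = true ∧ okGrow D 5 [] = true) (hr : 0 < D.rank)
    {Ws : List (List ℕ)} {k : ℕ} (hA : okA2 D C Ws k = true) (hWs : ∀ W ∈ Ws, okWord D W = true)
    (hB : okB D C B = true) : CaseA D C T F := by
  refine ⟨fun σ K H _ hRH => long_mul_A2 K hr hA hWs hRH, fun σ K H _ hRH hne => ?_⟩
  rcases grow_char σ p hG (by simp) (by simp) K hr hRH hne with h | ⟨rfl, k, hk, t, e, ht, hu⟩ | ⟨-, k, hk, -⟩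
  · exact h
  · rw [List.mem_singleton.1 hk] at hu
    exact ⟨t, ht, (long_field_B_two K hr hRH hB).2 t e hu⟩
  · simp at hk

/-- A double bond. -/
theorem caseA_B (p : ℕ) [Fact p.Prime] [CharP F p] {B : BData}
    (hG : okGrow D 2 [B.m] = true ∧ okGrow D 3 [] = true ∧ okGrow D 5 [] = true) (hr : 0 < D.rank)
    (hB : okB D C B = true) : CaseA D C T F := by
  refine ⟨fun σ K H _ hRH => ?_, fun σ K H _ hRH hne => ?_⟩
  · rcases eq_or_ne p 2 with rfl | hp
    · exact (long_field_B_two K hr hRH hB).1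
    · exact long_mul_B_odd K hr p hp hRH hB
  rcases grow_char σ p hG (by simp) (by simp) K hr hRH hne with h | ⟨rfl, k, hk, t, e, ht, hu⟩ | ⟨-, k, hk, -⟩
  · exact h
  · rw [List.mem_singleton.1 hk] at hu
    exact ⟨t, ht, (long_field_B_two K hr hRH hB).2 t e hu⟩
  · simp at hk

end Cfsg.Lib.Subfield
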