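import Cfsg.Agent.Chev.Subfield.CentInv

/-! Odd characteristic: an overgroup meeting `U` in rational points consists of rational points. -/

set_option autoImplicit false

open Cfsg.Lie

namespace Cfsg.Lib.Subfield

open Cfsg.Lib.Chev

variable {D : ChevalleyDatum} {C : Cert} {T : List (List ℤ)} {F : Type*} [Field F] {Sh : List ℕ} {r0 : ℕ}
  {σ : F →+* F} {H : Subgroup (GL D.Idx F)}

theorem conj_commute {G : Type*} [Group G] {a b : G} (g : G) (h : Commute a b) :
    Commute (g * a * g⁻¹) (g * b * g⁻¹) :=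
  h.map (MulAut.conj g)

theorem two_ne (p : ℕ) [Fact p.Prime] [CharP F p] (hp : p ≠ 2) : (2 : F) ≠ 0 :=
  Ring.two_ne_zero (by rw [ringChar.eq F p]; exact hp)

/-- The centraliser of `h_θ(-1)` in an overgroup is rational. -/
theorem cent_h0_fixed [Finite H] (p : ℕ) [Fact p.Prime] [CharP F p] (hp : p ≠ 2) (K : Core D C T)
    (hr : 0 < D.rank) (hL : LongCert D C Sh r0) (O : Over σ D H) (hN : NormClosed p (fixIn σ D H))
    {g : GL D.Idx F} (hg : g ∈ H) (hc : Commute (K.S.ok.hG (top D) (-1 : F)) g) : phiG σ D g = g := by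
  have S := K.S
  obtain ⟨t1, t2⟩ := top_lt S hr
  obtain ⟨hnn, -⟩ := S.neg_neg' t1
  have h2 : (2 : F) ≠ 0 := two_ne p hp
  set h0 := S.ok.hG (top D) (-1 : F) with hh0
  have hh0d : h0 ∈ D.diagonalSubgroup F :=
    Subgroup.subset_closure ⟨top D, -1, t1, neg_ne_zero.2 one_ne_zero, S.ok.val_hG _ _⟩
  obtain ⟨b, hb, n, hn, L, hact, u, hu, rfl⟩ := S.normal_form K.hN (O.hHG hg)
  have hu' : h0 * u * h0⁻¹ ∈ S.UPsi F (Struct.Neg D (S.wpL L)) := by
    refine Struct.conj_closure_le ?_ u hu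
    rintro x ⟨r, t, a, e, rfl⟩
    obtain ⟨-, c, -, ec⟩ := S.act_diag hh0d r
    rw [(ec t).1, Equiv.Perm.one_apply]
    exact S.mem_UPsi a e _
  have hk : h0 * n * h0⁻¹ * n⁻¹ ∈ D.diagonalSubgroup F := by
    have e1 : n * h0⁻¹ * n⁻¹ ∈ D.diagonalSubgroup F := S.norm_diag hn (inv_mem hh0d)
    rw [show h0 * n * h0⁻¹ * n⁻¹ = h0 * (n * h0⁻¹ * n⁻¹) by group]
    exact mul_mem hh0d e1
  obtain ⟨eb, -⟩ := S.normal_form_unique K.hN
    (mul_mem (mul_mem (mul_mem (Subgroup.mem_sup_right hh0d) hb) (inv_mem (Subgroup.mem_sup_right hh0d)))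
      (Subgroup.mem_sup_right hk)) hb hact hu' hu
    (show h0 * b * h0⁻¹ * (h0 * n * h0⁻¹ * n⁻¹) * n * (h0 * u * h0⁻¹) = b * n * u by
      calc _ = h0 * (b * n * u) * h0⁻¹ := by group
        _ = _ := by rw [hc.eq, mul_inv_cancel_right])
  obtain ⟨v, hv, d, hd, rfl⟩ := S.borel_decomp hb
  have hdc : h0 * d * h0⁻¹ = d := by
    have hd' := hd
    rw [S.ok.diagonalSubgroup_eq] at hd'
    obtain ⟨c', hc'⟩ := hd'
    have hh' := hh0d
    rw [S.ok.diagonalSubgroup_eq] at hh'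
    obtain ⟨c'', hc''⟩ := hh'
    rw [← hc', ← hc'', ← map_inv, ← map_mul, ← map_mul, mul_comm c'' c', mul_inv_cancel_right]
  set k := h0 * n * h0⁻¹ * n⁻¹ with hkdef
  have hmem : (h0 * v * h0⁻¹)⁻¹ * v ∈ D.posUnipotent F ⊓ D.diagonalSubgroup F := by
    refine Subgroup.mem_inf.2 ⟨mul_mem (inv_mem
      ((Subgroup.mem_normalizer_iff.1 (S.diag_normalises_U hh0d) v).1 hv)) hv, ?_⟩
    have e : (h0 * v * h0⁻¹)⁻¹ * v = d * k * d⁻¹ := by
      calc (h0 * v * h0⁻¹)⁻¹ * v = (h0 * v * h0⁻¹)⁻¹ * (h0 * (v * d) * h0⁻¹ * k) * d⁻¹ := by rw [eb]; group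
        _ = (h0 * d * h0⁻¹) * k * d⁻¹ := by group
        _ = _ := by rw [hdc]
    rw [e]
    exact mul_mem (mul_mem hd hk) (inv_mem hd)
  rw [S.U_inf_H, Subgroup.mem_bot, inv_mul_eq_one] at hmem
  have hk1 : k = 1 := by
    have h := eb
    rw [show h0 * (v * d) * h0⁻¹ * k = (h0 * v * h0⁻¹) * (h0 * d * h0⁻¹) * k by group, hdc, hmem] at h
    exact mul_eq_left.1 h
  have hvc : Commute h0 v := mul_inv_eq_iff_eq_mul.1 hmem
  have hnc : Commute h0 n := mul_inv_eq_iff_eq_mul.1 (mul_inv_eq_one.1 (hkdef ▸ hk1))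
  -- the image of the highest root
  obtain ⟨-, cn, hcn, en⟩ := hact ⟨top D, t1⟩
  set γ := S.wpL L ⟨top D, t1⟩
  have hev : (pair D (top D) γ.val).natAbs % 2 = 0 := by
    by_contra hodd
    have e1 : h0 * (n * S.ok.xG (top D) 1 * n⁻¹) * h0⁻¹ = n * S.ok.xG (top D) 1 * n⁻¹ :=
      mul_inv_eq_iff_eq_mul.2 ((hnc.mul_right ((hG_neg_one S K.hN t1 t2).1 1).1).mul_right hnc.inv_right).eq
    have e2 : n * S.ok.xG (top D) 1 * n⁻¹ = S.ok.xG γ.val (cn * 1) := (en 1).1
    rw [e2, odd_zero K hr h2 γ.isLt hodd] at e1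
    have e3 := S.xG_left_inj γ.isLt e1
    have : (2 : F) * (cn * 1) = 0 := by linear_combination -e3
    simp [h2, hcn] at this
  obtain ⟨-, cd, hcd, ed⟩ := S.act_diag (F := F) hd γ
  have hX : v * d * n * u * S.ok.xG (top D) 1 * (v * d * n * u)⁻¹ = v * S.ok.xG γ.val (cd * cn) * v⁻¹ := by
    have e1 := (en 1).1
    rw [mul_one] at e1
    have e2 := (ed cn).1
    rw [Equiv.Perm.one_apply] at e2
    have e3 := (xG_top_commute S hr hL.top (S.UPsi_le _ hu) (1 : F)).eq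
    calc v * d * n * u * S.ok.xG (top D) 1 * (v * d * n * u)⁻¹
        = v * d * n * (u * S.ok.xG (top D) 1) * u⁻¹ * (v * d * n)⁻¹ := by group
      _ = v * (d * (n * S.ok.xG (top D) 1 * n⁻¹) * d⁻¹) * v⁻¹ := by rw [e3]; group
      _ = _ := by rw [e1, e2]
  have hfix : ∀ r : ℕ, S.ok.xG r (1 : F) ∈ H ∧ phiG σ D (S.ok.xG r (1 : F)) = S.ok.xG r 1 := fun r => by
    have : phiG σ D (S.ok.xG r (1 : F)) = S.ok.xG r 1 := by rw [phiG_xG σ S, map_one]
    exact ⟨O.hRH (xG_rat σ S _ (map_one σ)), this⟩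
  obtain ⟨hxH, hxf⟩ := hfix (top D)
  refine fixed_of_conj hN hxH hxf (xG_one_ne S t1 one_ne_zero) (xG_pow_char S p _ _) hg ?_
  have hyH := mul_mem (mul_mem hg hxH) (inv_mem hg)
  rw [hX] at hyH ⊢
  have hvx : v * S.ok.xG (top D) 1 * v⁻¹ = S.ok.xG (top D) 1 := by
    rw [(xG_top_commute S hr hL.top hv (1 : F)).eq, mul_inv_cancel_right]
  by_cases hneg : γ.val = D.neg (top D)
  · obtain ⟨a1, a2, a3, a4, a5⟩ := r0_spec hL.top
    have hr0 : r0 < D.nroots := by omega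
    set Y := Subgroup.closure (Set.range (S.ok.xG (F := F) (top D)) ∪ Set.range (S.ok.xG (D.neg (top D))))
    have hy : v * S.ok.xG γ.val (cd * cn) * v⁻¹ ∈ Y :=
      cent_U_normalises K hr h2 hL.top v hv hvc _ (by rw [hneg]; exact Subgroup.subset_closure (Or.inr ⟨_, rfl⟩))
    have hYle : Y ≤ Subgroup.centralizer {S.ok.xG r0 (1 : F)} := by
      refine (Subgroup.closure_le _).2 ?_
      rintro z (⟨s, rfl⟩ | ⟨s, rfl⟩) <;> rw [SetLike.mem_coe, Subgroup.mem_centralizer_singleton_iff]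
      · refine (commutes_xG S hr0 t1 a4 ?_ 1 s).eq.symm
        have := S.neg_lt_half hr0 a1
        omega
      · refine (commutes_xG S hr0 hnn a5 ?_ 1 s).eq.symm
        have o1 := (S.order_row hr0).1
        have o2 := (S.order_row t1).1
        omega
    exact fixed_of_commute hN (hfix r0).1 (hfix r0).2 (xG_one_ne S hr0 one_ne_zero) (xG_pow_char S p _ _) hyH
      (Subgroup.mem_centralizer_singleton_iff.1 (hYle hy))
  · have hcom : Commute (S.ok.xG γ.val (cd * cn)) (S.ok.xG (top D) (1 : F)) := by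
      rcases eq_or_ne γ.val (top D) with h | hne
      · rw [h]; show _ = _; rw [S.ok.xG_mul, S.ok.xG_mul, add_comm]
      · rcases (top_spec hL.top γ.isLt).2.1 with h | h | h | h
        · exact absurd h hne
        · exact absurd h hneg
        · exact absurd hev h
        · refine commutes_xG S γ.isLt t1 h.1 ?_ _ _
          have o1 := (S.order_row γ.isLt).1
          have o2 := (S.order_row t1).1
          omega
    have h := conj_commute v hcom
    rw [hvx] at h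
    exact fixed_of_commute hN hxH hxf (xG_one_ne S t1 one_ne_zero) (xG_pow_char S p _ _) hyH h.eq

/-- **Case of odd characteristic.** -/
theorem caseB_odd [Finite H] (p : ℕ) [Fact p.Prime] [CharP F p] (hp : p ≠ 2)
    (K : Core D C T) (hr : 0 < D.rank) (hL : LongCert D C Sh r0) (O : Over σ D H)
    (hN : NormClosed p (fixIn σ D H)) :
    ∀ g ∈ H, phiG σ D g = g := by
  have S := K.S
  obtain ⟨t1, t2⟩ := top_lt S hr
  have h2 : (2 : F) ≠ 0 := two_ne p hp
  intro g hg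
  have hxf : phiG σ D (S.ok.xG (top D) (1 : F)) = S.ok.xG (top D) 1 := by rw [phiG_xG σ S, map_one]
  have hxH := O.hRH (xG_rat σ S (top D) (map_one σ))
  set x := S.ok.xG (top D) (1 : F) with hx
  have hx1 : x ≠ 1 := xG_one_ne S t1 one_ne_zero
  have hxp : x ^ p = 1 := xG_pow_char S p _ _
  refine fixed_of_conj hN hxH hxf hx1 hxp hg ?_
  obtain ⟨b, hb, γ, c, hc, hlong, hy⟩ := conj_top K hr hL (O.hHG hg)
  obtain ⟨a, ha, hba⟩ := borel_top K hr hL.top hb
  have hxb : x = b * S.ok.xG (top D) a⁻¹ * b⁻¹ := by rw [hba, mul_inv_cancel₀ ha]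
  have hyH : g * x * g⁻¹ ∈ H := mul_mem (mul_mem hg hxH) (inv_mem hg)
  rw [hy] at hyH ⊢
  set y := b * S.ok.xG γ.val c * b⁻¹ with hydef
  have hcomm : Commute (S.ok.xG (top D) a⁻¹) (S.ok.xG γ.val c) → phiG σ D y = y := fun h => by
    have h' := conj_commute b h
    rw [← hxb] at h'
    exact fixed_of_commute hN hxH hxf hx1 hxp hyH h'.eq.symm
  rcases eq_or_ne γ.val (top D) with h | hne
  · refine hcomm ?_
    rw [h]; show _ = _; rw [S.ok.xG_mul, S.ok.xG_mul, add_comm]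
  rcases eq_or_ne γ.val (D.neg (top D)) with hneg | hneg
  · -- the opposite root
    set h0 := S.ok.hG (top D) (-1 : F) with hh0
    obtain ⟨hc0, hgen⟩ := hG_neg_one (F := F) S K.hN t1 t2
    set z := b * h0 * b⁻¹ with hz
    have hzH : z ∈ H := by
      have h1 : Subgroup.closure {S.ok.xG (top D) a⁻¹, S.ok.xG (D.neg (top D)) c} ≤
          H.comap (MulAut.conj b).toMonoidHom := by
        refine (Subgroup.closure_le _).2 ?_
        rintro w (rfl | rfl)
        · show b * S.ok.xG (top D) a⁻¹ * b⁻¹ ∈ H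
          rw [← hxb]; exact hxH
        · show b * S.ok.xG (D.neg (top D)) c * b⁻¹ ∈ H
          rw [← hneg]; exact hyH
      refine h1 (hgen p hp a⁻¹ c (inv_ne_zero ha) hc (Finite.of_injective
        (fun w => (⟨b * (w : GL D.Idx F) * b⁻¹, h1 w.2⟩ : H)) fun w w' e => Subtype.ext ?_))
      exact mul_left_cancel (mul_right_cancel (congrArg Subtype.val e))
    have hzx : z * x = x * z := by
      have h := conj_commute b (hc0 a⁻¹).1
      rwa [← hxb] at h
    have hzy : z * y = y * z := by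
      have h := conj_commute b (hc0 c).2
      rw [← hneg] at h
      exact h
    have hzf : phiG σ D z = z := fixed_of_commute hN hxH hxf hx1 hxp hzH hzx
    obtain ⟨v, hv, d, hd, hbd⟩ := S.borel_decomp hb
    have hdh : Commute d h0 := by
      have hh0d : h0 ∈ D.diagonalSubgroup F :=
        Subgroup.subset_closure ⟨top D, -1, t1, neg_ne_zero.2 one_ne_zero, S.ok.val_hG _ _⟩
      rw [S.ok.diagonalSubgroup_eq] at hd hh0d
      obtain ⟨c', rfl⟩ := hd
      obtain ⟨c'', hc''⟩ := hh0d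
      rw [← hc'']
      show _ = _
      rw [← map_mul, ← map_mul, mul_comm]
    have hzv : z = v * h0 * v⁻¹ := by
      rw [hz, hbd, show v * d * h0 * (v * d)⁻¹ = v * (d * h0) * d⁻¹ * v⁻¹ by group, hdh.eq]
      group
    have hδ : v⁻¹ * phiG σ D v ∈ D.posUnipotent F ⊓ Subgroup.centralizer {h0} := by
      refine Subgroup.mem_inf.2 ⟨mul_mem (inv_mem hv) (phiG_pos σ S hv), ?_⟩
      rw [Subgroup.mem_centralizer_singleton_iff]
      rw [hzv, map_mul, map_mul, map_inv, hh0, hG_fixed S, ← hh0] at hzf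
      calc v⁻¹ * phiG σ D v * h0 = v⁻¹ * (phiG σ D v * h0 * (phiG σ D v)⁻¹) * phiG σ D v := by group
        _ = h0 * (v⁻¹ * phiG σ D v) := by rw [hzf]; group
    obtain ⟨m, hm, -, hmv⟩ := strip_rat σ S (D.posUnipotent F ⊓ Subgroup.centralizer {h0})
      (fun k => (pair D (top D) k).natAbs % 2 = 0)
      (fun k hk hkn hev t => Subgroup.mem_inf.2 ⟨S.xG_mem_U hk hkn t,
        Subgroup.mem_centralizer_singleton_iff.2 (even_fix K hr hkn hev t).eq.symm⟩)
      (fun k hk hkn hodd t w hw hmem => lead_even K hr h2 hkn hk hw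
        (Subgroup.mem_centralizer_singleton_iff.1 (Subgroup.mem_inf.1 hmem).2).symm hodd) v hv hδ
    have hmc := Subgroup.mem_centralizer_singleton_iff.1 (Subgroup.mem_inf.1 hmv).2
    obtain ⟨hmf, hmG⟩ := rat_fixed σ S m hm
    have hmH := O.hRH hm
    have hzm : m⁻¹ * z * m = h0 := by
      rw [hzv, show m⁻¹ * (v * h0 * v⁻¹) * m = m⁻¹ * v * h0 * (m⁻¹ * v)⁻¹ by group, hmc, mul_inv_cancel_right]
    have hcy : Commute h0 (m⁻¹ * y * m) := by
      have h := conj_commute m⁻¹ (show Commute z y from hzy)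
      rw [inv_inv, hzm] at h
      exact h
    have h := cent_h0_fixed p hp K hr hL O hN (mul_mem (mul_mem (inv_mem hmH) hyH) hmH) hcy
    rw [map_mul, map_mul, map_inv, hmf] at h
    exact mul_left_cancel (mul_right_cancel h)
  rcases (top_spec hL.top γ.isLt).2.2 with h | h | h | h | ⟨v, cv, hterm, hcv, hv, hcv1, hcv2, n1, n2, n3, n4⟩
  · exact absurd h hne
  · exact absurd h hneg
  · rw [hlong] at h; exact absurd h (by simp)
  · exact hcomm (commutes_xG S t1 γ.isLt h hneg _ _)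
  · set w := S.ok.xG v ((cv : F) * (-a⁻¹) * c)
    have hcv0 : (cv : F) ≠ 0 := by
      rcases Int.natAbs_eq cv with h | h <;> rw [h, hcv] <;> simp
    have e := S.ok.commRel S.chain S.base t1 γ.isLt hne hneg a⁻¹ c
    have ew : S.ok.wG (D.commWord F (top D) γ.val a⁻¹ c) = w := by
      simp [ChevalleyDatum.commWord, hterm, Ok.wG, w]
    rw [ew] at e
    have hzH : b * w * b⁻¹ ∈ H := by
      have h1 : (b * S.ok.xG γ.val c * b⁻¹)⁻¹ * (b * S.ok.xG (top D) a⁻¹ * b⁻¹)⁻¹ *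
          (b * S.ok.xG γ.val c * b⁻¹) * (b * S.ok.xG (top D) a⁻¹ * b⁻¹) ∈ H := by
        rw [← hxb]
        exact mul_mem (mul_mem (mul_mem (inv_mem hyH) (inv_mem hxH)) hyH) hxH
      rw [show b * w * b⁻¹ = (b * S.ok.xG γ.val c * b⁻¹)⁻¹ * (b * S.ok.xG (top D) a⁻¹ * b⁻¹)⁻¹ *
          (b * S.ok.xG γ.val c * b⁻¹) * (b * S.ok.xG (top D) a⁻¹ * b⁻¹) by
        calc b * w * b⁻¹ = b * ((S.ok.xG γ.val c)⁻¹ * (S.ok.xG (top D) a⁻¹)⁻¹ *
              (S.ok.xG (top D) a⁻¹ * S.ok.xG γ.val c * w)) * b⁻¹ := by group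
          _ = _ := by rw [← e]; group]
      exact h1
    have o1 := (S.order_row t1).1
    have o2 := (S.order_row γ.isLt).1
    have o3 := (S.order_row hv).1
    have hz1 : b * w * b⁻¹ ≠ 1 := fun h0 => by
      rw [mul_inv_eq_one, mul_eq_left] at h0
      exact xG_one_ne S hv (mul_ne_zero (mul_ne_zero hcv0 (neg_ne_zero.2 (inv_ne_zero ha))) hc) h0
    have hzp : (b * w * b⁻¹) ^ p = 1 := by rw [conj_pow, xG_pow_char S p, mul_one, mul_inv_cancel]
    have hzx : b * w * b⁻¹ * x = x * (b * w * b⁻¹) := by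
      have h := conj_commute b (commutes_xG S t1 hv hcv1 (by omega) a⁻¹ ((cv : F) * (-a⁻¹) * c))
      rw [← hxb] at h
      exact h.eq.symm
    have hzy : y * (b * w * b⁻¹) = b * w * b⁻¹ * y :=
      (conj_commute b (commutes_xG S γ.isLt hv hcv2 n2 c ((cv : F) * (-a⁻¹) * c))).eq
    exact fixed_of_commute hN hzH (fixed_of_commute hN hxH hxf hx1 hxp hzH hzx) hz1 hzp hyH hzy

end Cfsg.Lib.Subfield
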