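import Cfsg.Agent.Chev.Subfield.Norm
import Cfsg.Agent.Chev.Subfield.Step

/-! Characteristic two: two classes of rational involutions. -/

set_option autoImplicit false

open Cfsg.Lie

namespace Cfsg.Lib.Subfield

open Cfsg.Lib.Chev

variable {D : ChevalleyDatum} {C : Cert} {T : List (List ℤ)} {F : Type*} [Field F] {Sh : List ℕ} {r0 : ℕ}

/-- An element of `U` conjugate to the highest root element leads at a long root. -/
theorem conj_top_in_U (K : Core D C T) (hr : 0 < D.rank) (hL : LongCert D C Sh r0) {g t : GL D.Idx F}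
    (hg : g ∈ D.group F) (ht : t ∈ D.posUnipotent F) (e : g * K.S.ok.xG (top D) 1 * g⁻¹ = t) :
    ∃ (γ : Fin D.nroots) (c : F), D.nroots / 2 ≤ γ.val ∧ c ≠ 0 ∧ isLong Sh γ.val = true ∧
      ∃ v ∈ D.posUnipotent F, t = v * K.S.ok.xG γ.val c * v⁻¹ := by
  have S := K.S
  obtain ⟨b, hb, γ, c, hc, hlong, hy⟩ := conj_top K hr hL hg
  rw [e] at hy
  have hpos : D.nroots / 2 ≤ γ.val := by
    by_contra hneg
    have h1 : S.ok.xG γ.val c ∈ D.borelSubgroup F ⊓ D.negUnipotent F := by
      refine Subgroup.mem_inf.2 ⟨?_, Subgroup.subset_closure ⟨_, _, S.isNeg_iff.2 (by omega), S.ok.val_xG _ _⟩⟩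
      rw [show S.ok.xG γ.val c = b⁻¹ * t * b by rw [hy]; group]
      exact mul_mem (mul_mem (inv_mem hb) (S.B_le_of ht)) hb
    rw [S.B_inf_V K.hN, Subgroup.mem_bot] at h1
    exact xG_one_ne S γ.isLt hc h1
  obtain ⟨v, hv, d, hd, rfl⟩ := S.borel_decomp hb
  obtain ⟨-, cd, hcd, ed⟩ := S.act_diag (F := F) hd γ
  refine ⟨γ, cd * c, hpos, mul_ne_zero hcd hc, hlong, v, hv, ?_⟩
  have e1 := (ed c).1
  rw [Equiv.Perm.one_apply] at e1
  rw [hy, ← e1]
  group

/-- A short root element is not conjugate to the highest root element. -/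
theorem not_conj_short (K : Core D C T) (hr : 0 < D.rank) (hL : LongCert D C Sh r0) {s : ℕ}
    (hs : okShort D Sh s = true) {g : GL D.Idx F} (hg : g ∈ D.group F) :
    g * K.S.ok.xG (top D) 1 * g⁻¹ ≠ K.S.ok.xG s (1 : F) := by
  intro e
  have S := K.S
  simp only [okShort, Bool.and_eq_true, Bool.not_eq_true'] at hs
  obtain ⟨⟨⟨s1, s2⟩, s3⟩, -⟩ := hs
  have hsp : D.nroots / 2 ≤ s := Nat.le_of_ble_eq_true s1
  have hsn : s < D.nroots := by
    have := Nat.le_of_ble_eq_true s2; have := (top_lt S hr).1; omega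
  obtain ⟨γ, c, hγ, hc, hlong, v, hv, et⟩ := conj_top_in_U K hr hL hg (S.xG_mem_U hsp hsn 1) e
  obtain ⟨w, hw, ew⟩ := S.conj_pos_lead hv γ.isLt hγ c
  rw [ew] at et
  obtain ⟨h, -⟩ := S.lead_unique γ.isLt hγ hsn hsp hc hw et.symm
  rw [h, s3] at hlong
  exact Bool.false_ne_true hlong

/-- The product of two root elements of long roots that is not conjugate to a root element. -/
theorem not_conj_partner (K : Core D C T) (hr : 0 < D.rank) (hL : LongCert D C Sh r0) [CharP F 2] {r : ℕ}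
    (hP : okPartner D r = true) {g : GL D.Idx F} (hg : g ∈ D.group F) :
    g * K.S.ok.xG (top D) 1 * g⁻¹ ≠ K.S.ok.xG r (1 : F) * K.S.ok.xG (top D) 1 := by
  intro e
  have S := K.S
  haveI : Fact (Nat.Prime 2) := ⟨Nat.prime_two⟩
  obtain ⟨t1, t2⟩ := top_lt S hr
  simp only [okPartner, Bool.and_eq_true, Bool.or_eq_true, Bool.not_eq_true'] at hP
  obtain ⟨⟨⟨r1, r2⟩, r3⟩, r4⟩ := hP
  have hrp : D.nroots / 2 ≤ r := Nat.le_of_ble_eq_true r1
  have hrt : r < top D := Nat.le_of_ble_eq_true r2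
  have hrn : r < D.nroots := by omega
  obtain ⟨γ, c, hγ, hc, -, v, hv, et⟩ := conj_top_in_U K hr hL hg
    (mul_mem (S.xG_mem_U hrp hrn 1) (S.xG_mem_U t2 t1 1)) e
  obtain ⟨w, hw, ew⟩ := S.conj_pos_lead hv γ.isLt hγ c
  have hθ : ∀ (k : ℕ) (a : F), k ≤ top D → S.ok.xG (top D) a ∈ S.Ugen F k := fun k a h => S.xG_mem_Ugen h t1 a
  have hγr : γ.val = r ∧ c = 1 := by
    have et' := et
    rw [ew] at et'
    rcases lt_trichotomy γ.val r with h | h | h
    · exact absurd (lead_zero S γ.isLt hγ hw (et' ▸ mul_mem (S.xG_mem_Ugen h hrn 1) (hθ _ 1 (by omega)))) hc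
    · refine ⟨h, ?_⟩
      rw [h] at et' hw
      exact (lead_eq S hrn hrp (hθ _ 1 hrt) hw et').symm
    · refine absurd (lead_zero S hrn hrp (hθ (r + 1) 1 hrt) ?_) (one_ne_zero (α := F))
      rw [et']
      exact mul_mem (S.xG_mem_Ugen h γ.isLt c) (S.Ugen_mono (by omega) hw)
  obtain ⟨hγr, rfl⟩ := hγr
  rw [hγr] at et
  set xr := S.ok.xG r (1 : F)
  -- no element of `U` moves `x_r(1)` by a nontrivial element of `X_θ`
  suffices H : ∀ d k, d + k = D.nroots → D.nroots / 2 ≤ k → ∀ u ∈ S.Ugen F k, ∀ a : F,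
      u * xr * u⁻¹ = xr * S.ok.xG (top D) a → a = 0 by
    have hs := S.hsum
    exact one_ne_zero (H (D.nroots - D.nroots / 2) (D.nroots / 2) (by omega) le_rfl v
      (by rw [← S.posUnipotent_eq]; exact hv) 1 et.symm)
  intro d
  induction d with
  | zero =>
    intro k hk _ u hu a h
    rw [S.Ugen_top (by omega), Subgroup.mem_bot] at hu
    rw [hu, one_mul, inv_one, mul_one] at h
    exact S.xG_eq_one t1 (mul_eq_left.1 h.symm)
  | succ d ih =>
    intro k hk hkp u hu a h
    have hkn : k < D.nroots := by omega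
    obtain ⟨t, u', hu', rfl⟩ := S.Ugen_split hkn hkp hu
    have hcx : Commute (S.ok.xG k t) xr → a = 0 := by
      intro hc
      have hth := (xG_top_commute S hr hL.top (S.xG_mem_U hkp hkn t) a)
      refine ih (k + 1) (by omega) (by omega) u' hu' a ?_
      calc u' * xr * u'⁻¹
          = (S.ok.xG k t)⁻¹ * (S.ok.xG k t * u' * xr * (S.ok.xG k t * u')⁻¹) * S.ok.xG k t := by group
        _ = (S.ok.xG k t)⁻¹ * (xr * S.ok.xG (top D) a) * S.ok.xG k t := by rw [h]
        _ = _ := by rw [mul_assoc, (hc.mul_right hth).eq.symm, inv_mul_cancel_left]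
    have h4 := kall_krange r4 k hkn
    simp only [Bool.or_eq_true] at h4
    rcases h4 with ((h1 | h1) | h1) | h1
    · have : k < D.nroots / 2 := Nat.le_of_ble_eq_true h1; omega
    · refine hcx ?_
      rw [Nat.eq_of_beq_eq_true h1]
      show _ = _
      simp only [xr, S.ok.xG_mul, add_comm]
    · refine hcx (xG_commute S hkn hrn (List.isEmpty_iff.1 h1) ?_ t 1)
      have := S.neg_lt_half hkn hkp
      omega
    · simp only [Bool.and_eq_true, Bool.not_eq_true'] at h1
      obtain ⟨h1, h2⟩ := h1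
      obtain ⟨q, cq, hkq, hq, hc3, hcp, hhead, hstep⟩ := step_comm (F := F) S hrn hkn hkp hrp h1
      obtain ⟨W, hW, eW⟩ := hstep t u' hu'
      rw [h, inv_mul_cancel_left] at eW
      have hqt : q < top D := by
        refine lt_of_le_of_ne (by unfold top; omega) fun e => ?_
        generalize D.commTerms k r = L at h2 hhead
        rcases L with _ | ⟨x, L⟩
        · simp at hhead
        · simp only [List.head?_cons, Option.some.injEq] at hhead
          subst hhead
          simp [kany, e] at h2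
      have ht : t = 0 := by
        have h0 := lead_zero S hq (by omega) hW (eW ▸ hθ _ a hqt)
        exact (mul_eq_zero.1 h0).resolve_left (coeff_ne 2 hc3 hcp (Or.inl rfl))
      refine hcx ?_
      rw [ht, S.xG_zero]
      exact Commute.one_left _

variable {σ : F →+* F} {H : Subgroup (GL D.Idx F)}

/-- **Case of characteristic two.** -/
theorem caseB_two [Finite H] [CharP F 2] (K : Core D C T) (hr : 0 < D.rank) (hL : LongCert D C Sh r0)
    (hw : ∃ r, okShort D Sh r = true ∨ okPartner D r = true) (O : Over σ D H)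
    (hN : NormClosed 2 (fixIn σ D H)) :
    ∀ g ∈ H, phiG σ D g = g := by
  haveI : Fact (Nat.Prime 2) := ⟨Nat.prime_two⟩
  have S := K.S
  obtain ⟨t1, t2⟩ := top_lt S hr
  have hfix : ∀ r : ℕ, phiG σ D (S.ok.xG r (1 : F)) = S.ok.xG r 1 := fun r => by rw [phiG_xG σ S, map_one]
  obtain ⟨t, htH, htf, ht1, ht2, hnc⟩ : ∃ t : GL D.Idx F, t ∈ H ∧ phiG σ D t = t ∧ t ≠ 1 ∧
      t ^ 2 = 1 ∧ ∀ g ∈ D.group F, g * S.ok.xG (top D) 1 * g⁻¹ ≠ t := by
    obtain ⟨r, hr' | hr'⟩ := hw
    · have h := hr'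
      simp only [okShort, Bool.and_eq_true] at h
      have hrn : r < D.nroots := by
        have := Nat.le_of_ble_eq_true h.1.1.2; omega
      exact ⟨_, O.hRH (xG_rat σ S r (map_one σ)), hfix r, xG_one_ne S hrn one_ne_zero, xG_pow_char S 2 _ _,
        fun g hg => not_conj_short K hr hL hr' hg⟩
    · have h := hr'
      simp only [okPartner, Bool.and_eq_true] at h
      have hrp : D.nroots / 2 ≤ r := Nat.le_of_ble_eq_true h.1.1.1
      have hrt : r < top D := Nat.le_of_ble_eq_true h.1.1.2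
      have hrn : r < D.nroots := by omega
      refine ⟨_, mul_mem (O.hRH (xG_rat σ S r (map_one σ))) (O.hRH (xG_rat σ S (top D) (map_one σ))),
        by rw [map_mul, hfix, hfix], fun e => one_ne_zero (α := F) (lead_zero S hrn hrp (t := 1)
          (S.xG_mem_Ugen (k := r + 1) (by omega) t1 1) (e ▸ one_mem _)), ?_,
        fun g hg => not_conj_partner K hr hL hr' hg⟩
      rw [(xG_top_commute S hr hL.top (S.xG_mem_U hrp hrn 1) (1 : F)).mul_pow, xG_pow_char S 2,
        xG_pow_char S 2, one_mul]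
  have hsH := O.hRH (xG_rat σ S (top D) (map_one σ))
  have htop := eq_top_of_two_classes hN (s := ⟨_, hsH⟩) (t := ⟨t, htH⟩) (hfix (top D)) htf
    (fun e => xG_one_ne S t1 one_ne_zero (congrArg Subtype.val e)) (fun e => ht1 (congrArg Subtype.val e))
    (Subtype.ext (xG_pow_char S 2 _ _)) (Subtype.ext ht2)
    (fun h e => hnc _ (O.hHG h.2) (congrArg Subtype.val e))
  intro g hg
  have : (⟨g, hg⟩ : ↥H) ∈ fixIn σ D H := htop ▸ Subgroup.mem_top _
  exact this

end Cfsg.Lib.Subfield
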