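import Cfsg.Agent.Chev.Subfield.Norm
import Cfsg.Agent.Chev.Subfield.Long
import Cfsg.Agent.OddLocal.LinearTwo

/-! The central involution of the `SL₂` of the highest root and its centraliser in an overgroup. -/

set_option autoImplicit false

open Cfsg.Lie

namespace Cfsg.Lib.Subfield

open Cfsg.Lib.Chev

section SL2

variable {F : Type*} [Field F]

/-- The element `-1` of `SL₂`. -/
noncomputable def negM : Matrix.SpecialLinearGroup (Fin 2) F :=
  ⟨!![-1, 0; 0, -1], by simp [Matrix.det_fin_two]⟩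

theorem mat_negM : mat (negM : Matrix.SpecialLinearGroup (Fin 2) F) = !![-1, 0; 0, -1] := rfl

theorem negM_commute (g : Matrix.SpecialLinearGroup (Fin 2) F) : negM * g = g * negM := by
  apply mat_inj
  ext i j
  fin_cases i <;> fin_cases j <;> simp [mat_mul, mat_negM, Matrix.mul_apply, Fin.sum_univ_two]

theorem negM_eq : (negM : Matrix.SpecialLinearGroup (Fin 2) F) =
    (uM (-1) * lM 1 * uM (-1)) * (uM (-1) * lM 1 * uM (-1)) := by
  apply mat_inj
  ext i j
  fin_cases i <;> fin_cases j <;>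
    simp [mat_mul, mat_uM, mat_lM, Matrix.mul_apply, Fin.sum_univ_two] <;> simp [mat, negM] <;> norm_num

theorem sq_eq_one_cases (h2 : (2 : F) ≠ 0) {z : Matrix.SpecialLinearGroup (Fin 2) F} (hz : z * z = 1)
    (hne : z ≠ 1) : z = negM := by
  have hinv : z⁻¹ = z := inv_eq_of_mul_eq_one_right hz
  have e : ∀ i j, (mat z).adjugate i j = mat z i j := fun i j => by
    have := congrArg (fun w : Matrix.SpecialLinearGroup (Fin 2) F => mat w i j) hinv
    simpa [mat, Matrix.SpecialLinearGroup.coe_inv] using this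
  have e01 := e 0 1
  have e10 := e 1 0
  have e00 := e 0 0
  rw [Matrix.adjugate_fin_two] at e01 e10 e00
  simp at e01 e10 e00
  have hb : mat z 0 1 = 0 := by
    have : (2 : F) * mat z 0 1 = 0 := by linear_combination -e01
    exact (mul_eq_zero.1 this).resolve_left h2
  have hc : mat z 1 0 = 0 := by
    have : (2 : F) * mat z 1 0 = 0 := by linear_combination -e10
    exact (mul_eq_zero.1 this).resolve_left h2
  have hd := mat_det z
  rw [hb, zero_mul, sub_zero, e00] at hd
  rcases mul_self_eq_one_iff.1 hd with h | h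
  · refine absurd (mat_inj ?_) hne
    ext i j
    fin_cases i <;> fin_cases j <;> simp [mat_one, hb, hc, h, e00]
  · refine mat_inj ?_
    rw [show mat (negM : Matrix.SpecialLinearGroup (Fin 2) F) = !![-1, 0; 0, -1] from rfl]
    ext i j
    fin_cases i <;> fin_cases j <;> simp [hb, hc, h, e00]

theorem negM_mem (p : ℕ) [Fact p.Prime] [CharP F p] (hp : p ≠ 2) {a b : F} (ha : a ≠ 0)
    (hb : b ≠ 0) [Finite ↥(Subgroup.closure ({uM a, lM b} : Set (Matrix.SpecialLinearGroup (Fin 2) F)))] : (negM : Matrix.SpecialLinearGroup (Fin 2) F) ∈ Subgroup.closure {uM a, lM b} := by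
  classical
  set Q := Subgroup.closure ({uM a, lM b} : Set (Matrix.SpecialLinearGroup (Fin 2) F))
  let f : Matrix.SpecialLinearGroup (Fin 2) F →* GL (Fin 2) F := Matrix.SpecialLinearGroup.toGL
  have hf : Function.Injective f := Matrix.SpecialLinearGroup.toGL_injective
  have hu : uM a ∈ Q := Subgroup.subset_closure (Set.mem_insert _ _)
  have hl : lM b ∈ Q := Subgroup.subset_closure (Set.mem_insert_of_mem _ rfl)
  have hcard : p ∣ Nat.card ↥(Q.map f) := by
    rw [Subgroup.card_map_of_injective hf]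
    have ho : orderOf (uM a) = p := by
      refine orderOf_eq_prime ?_ fun e => ha ?_
      · have key : ∀ n : ℕ, uM a ^ n = uM ((n : F) * a) := fun n => by
          induction n with
          | zero =>
            rw [pow_zero]
            refine mat_inj ?_
            ext i j; fin_cases i <;> fin_cases j <;> simp [mat_one, mat_uM]
          | succ n ih =>
            rw [pow_succ, ih]
            refine mat_inj ?_
            ext i j; fin_cases i <;> fin_cases j <;>
              simp [mat_mul, mat_uM, Matrix.mul_apply, Fin.sum_univ_two]; ring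
        rw [key, CharP.cast_eq_zero, zero_mul]
        refine mat_inj ?_
        ext i j; fin_cases i <;> fin_cases j <;> simp [mat_one, mat_uM]
      · have := congrArg (fun w => mat w 0 1) e
        simpa [mat_uM, mat_one] using this
    rw [← ho, ← Subgroup.orderOf_mk (uM a) hu]
    exact orderOf_dvd_natCard _
  haveI : Finite ↥(Q.map f) :=
    Finite.of_equiv _ (Q.equivMapOfInjective f hf).toEquiv
  have heven : Even (Nat.card ↥Q) := by
    by_contra hodd
    rw [Nat.not_even_iff_odd, ← Subgroup.card_map_of_injective hf] at hodd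
    refine Cfsg.Lib.LinearTwo.not_dvd_card hp _ hodd (fun v hv => ?_) hcard
    by_cases h1 : v 1 = 0
    · refine ⟨f (lM b), ⟨_, hl, rfl⟩, fun hmem => ?_⟩
      obtain ⟨c, hc⟩ := Submodule.mem_span_singleton.1 hmem
      rw [show ((f (lM b) : GL (Fin 2) F) : Matrix (Fin 2) (Fin 2) F) = !![1, 0; b, 1] from rfl] at hc
      have h := congrFun hc 1
      have hv0 : v 0 ≠ 0 := fun h0 => hv (by funext i; fin_cases i <;> simp [h0, h1])
      simp [Matrix.mulVec, dotProduct, Fin.sum_univ_two, h1] at h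
      rcases h with h | h
      · exact hb h
      · exact hv0 h
    · refine ⟨f (uM a), ⟨_, hu, rfl⟩, fun hmem => ?_⟩
      obtain ⟨c, hc⟩ := Submodule.mem_span_singleton.1 hmem
      rw [show ((f (uM a) : GL (Fin 2) F) : Matrix (Fin 2) (Fin 2) F) = !![1, a; 0, 1] from rfl] at hc
      have h := congrFun hc 1
      have h' := congrFun hc 0
      simp [Matrix.mulVec, dotProduct, Fin.sum_univ_two, h1] at h h'
      rw [h, one_mul] at h'
      exact mul_ne_zero ha h1 (by linear_combination -h')
  haveI : Fact (Nat.Prime 2) := ⟨Nat.prime_two⟩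
  obtain ⟨z, hz⟩ := exists_prime_orderOf_dvd_card' (G := ↥Q) 2 (even_iff_two_dvd.1 heven)
  have h2 : (2 : F) ≠ 0 := Ring.two_ne_zero (by rw [ringChar.eq F p]; exact hp)
  have hzz : (z : Matrix.SpecialLinearGroup (Fin 2) F) * z = 1 := by
    have := pow_orderOf_eq_one z
    rw [hz, sq] at this
    exact congrArg Subtype.val this
  rw [← sq_eq_one_cases h2 hzz (fun e => by
    rw [show z = 1 from Subtype.ext e, orderOf_one] at hz; exact absurd hz (by norm_num))]
  exact z.2

end SL2

variable {D : ChevalleyDatum} {C : Cert} {T : List (List ℤ)} {F : Type*} [Field F] {Sh : List ℕ} {r0 : ℕ}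

/-- A finitely many-to-one description of the `SL₂` of a positive root. -/
theorem finite_preimage (S : Struct D C) (hN : okNeg D = true) {r : ℕ} (hr : r < D.nroots)
    (hrp : D.nroots / 2 ≤ r) (φ : Matrix.SpecialLinearGroup (Fin 2) F →* GL D.Idx F)
    (h1 : ∀ t, φ (uM t) = S.ok.xG r t) (h2 : ∀ t, φ (lM t) = S.ok.xG (D.neg r) t) {a b : F}
    (hfin : Finite ↥(Subgroup.closure ({S.ok.xG r a, S.ok.xG (D.neg r) b} : Set (GL D.Idx F)))) :
    Finite ↥(Subgroup.closure ({uM a, lM b} : Set (Matrix.SpecialLinearGroup (Fin 2) F))) := by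
  obtain ⟨hn, -⟩ := S.neg_neg' hr
  have hBV : ∀ t : F, S.ok.xG (D.neg r) t ∈ D.posUnipotent F → t = 0 := fun t ht => by
    have h : S.ok.xG (D.neg r) t ∈ D.borelSubgroup F ⊓ D.negUnipotent F :=
      Subgroup.mem_inf.2 ⟨S.B_le_of ht, Subgroup.subset_closure
        ⟨_, _, S.isNeg_iff.2 (S.neg_lt_half hr hrp), S.ok.val_xG _ _⟩⟩
    rw [S.B_inf_V hN, Subgroup.mem_bot] at h
    exact S.xG_eq_one hn h
  have hU : ∀ t : F, S.ok.xG r t ∈ D.posUnipotent F := S.xG_mem_U hrp hr
  have hker : ∀ g ∈ φ.ker, g = 1 ∨ g = negM := by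
    intro g hg
    rw [MonoidHom.mem_ker] at hg
    have hd := mat_det g
    have hc : mat g 1 0 = 0 := by
      by_contra hc
      set α := mat g 0 0 / mat g 1 0 with hα
      set c := mat g 1 0 with hcdef
      have e : g * uM 1 = uM α * lM (-(c * c)) * uM (-α) * g := by
        refine mat_inj ?_
        have hαc : α * c = mat g 0 0 := div_mul_cancel₀ _ hc
        ext i j
        fin_cases i <;> fin_cases j <;>
          simp [mat_mul, mat_uM, mat_lM, Matrix.mul_apply, Fin.sum_univ_two] <;> grind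
      have h3 := congrArg φ e
      simp only [map_mul, hg, one_mul, mul_one, h1, h2] at h3
      refine mul_ne_zero hc hc (neg_eq_zero.1 (hBV (-(c * c)) ?_))
      rw [show S.ok.xG (D.neg r) (-(c * c)) = (S.ok.xG r α)⁻¹ * S.ok.xG r 1 * (S.ok.xG r (-α))⁻¹ by
        rw [h3]; group]
      exact mul_mem (mul_mem (inv_mem (hU _)) (hU _)) (inv_mem (hU _))
    rw [hc, mul_zero, sub_zero] at hd
    have e : g * uM 1 = uM (mat g 0 0 * mat g 0 0) * g := by
      refine mat_inj ?_
      ext i j
      fin_cases i <;> fin_cases j <;> simp [mat_mul, mat_uM, Matrix.mul_apply, Fin.sum_univ_two, hc] <;> grind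
    have h3 := congrArg φ e
    simp only [map_mul, hg, one_mul, mul_one, h1] at h3
    have ha : mat g 0 0 * mat g 0 0 = 1 := (S.xG_left_inj hr h3).symm
    have key : ∀ (m : Matrix.SpecialLinearGroup (Fin 2) F) (β : F), g = uM β * m → φ m ∈ D.diagonalSubgroup F →
        g = m := fun m β e hm => by
      have h := congrArg φ e
      rw [map_mul, hg, h1] at h
      have hmem : S.ok.xG r β ∈ D.posUnipotent F ⊓ D.diagonalSubgroup F :=
        Subgroup.mem_inf.2 ⟨hU _, by rw [eq_inv_of_mul_eq_one_left h.symm]; exact inv_mem hm⟩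
      rw [S.U_inf_H, Subgroup.mem_bot] at hmem
      rw [e, S.xG_eq_one hr hmem, show uM (0 : F) = 1 from mat_inj (by
        ext i j; fin_cases i <;> fin_cases j <;> simp [mat_uM, mat_one]), one_mul]
    have hneg : φ negM = S.ok.hG r (-1 : F) := by
      rw [negM_eq]
      simp only [map_mul, h1, h2, Ok.hG, Ok.nG, inv_neg, inv_one, neg_neg]
    rcases mul_self_eq_one_iff.1 ha with h | h
    · refine Or.inl (key 1 (mat g 0 1) ?_ (by rw [map_one]; exact one_mem _))
      refine mat_inj ?_
      ext i j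
      fin_cases i <;> fin_cases j <;> simp [mat_mul, mat_uM, mat_one, Matrix.mul_apply, Fin.sum_univ_two, hc, h] <;> grind
    · refine Or.inr (key negM (-(mat g 0 1)) ?_ (hneg ▸ Subgroup.subset_closure
        ⟨r, -1, hr, neg_ne_zero.2 one_ne_zero, S.ok.val_hG _ _⟩))
      refine mat_inj ?_
      ext i j
      fin_cases i <;> fin_cases j <;> simp [mat_mul, mat_uM, mat_negM, Matrix.mul_apply, Fin.sum_univ_two, hc, h] <;> grind
  set Q := Subgroup.closure ({uM a, lM b} : Set (Matrix.SpecialLinearGroup (Fin 2) F))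
  have hmap : Q.map φ = Subgroup.closure {S.ok.xG r a, S.ok.xG (D.neg r) b} := by
    rw [MonoidHom.map_closure, Set.image_pair, h1, h2]
  haveI : Finite ↥(Q.map φ) := by rw [hmap]; exact hfin
  let f := φ.subgroupMap Q
  haveI : Finite f.ker := by
    classical
    refine Finite.of_injective (fun g : f.ker => decide (((g : Q) : Matrix.SpecialLinearGroup (Fin 2) F) = 1))
      fun g g' h => ?_
    have k1 := hker _ (MonoidHom.mem_ker.2 (congrArg Subtype.val (MonoidHom.mem_ker.1 g.2)))
    have k2 := hker _ (MonoidHom.mem_ker.2 (congrArg Subtype.val (MonoidHom.mem_ker.1 g'.2)))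
    simp only [decide_eq_decide] at h
    refine Subtype.ext (Subtype.ext ?_)
    rcases k1 with k1 | k1 <;> rcases k2 with k2 | k2
    · rw [k1, k2]
    · exact k1.trans (h.1 k1).symm
    · exact (h.2 k2).trans k2.symm
    · rw [k1, k2]
  haveI : Finite (↥Q ⧸ f.ker) := Finite.of_equiv _
    (QuotientGroup.quotientKerEquivOfSurjective f (φ.subgroupMap_surjective Q)).symm.toEquiv
  exact Finite.of_subgroup_quotient f.ker

/-- The involution `h_θ(-1)` commutes with the two root subgroups and lies in the group they generate. -/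
theorem hG_neg_one (S : Struct D C) (hN : okNeg D = true) {r : ℕ} (hr : r < D.nroots)
    (hrp : D.nroots / 2 ≤ r) :
    (∀ t : F, Commute (S.ok.hG r (-1)) (S.ok.xG r t) ∧ Commute (S.ok.hG r (-1)) (S.ok.xG (D.neg r) t)) ∧
    ∀ (p : ℕ) [Fact p.Prime] [CharP F p], p ≠ 2 → ∀ a b : F, a ≠ 0 → b ≠ 0 →
      Finite ↥(Subgroup.closure ({S.ok.xG r a, S.ok.xG (D.neg r) b} : Set (GL D.Idx F))) →
      S.ok.hG r (-1) ∈ Subgroup.closure {S.ok.xG r a, S.ok.xG (D.neg r) b} := by
  obtain ⟨φ, h1, h2, -⟩ := S.hasSL2 (F := F) r hr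
  have e : S.ok.hG r (-1 : F) = φ negM := by
    rw [negM_eq]
    simp only [map_mul, h1, h2, Ok.hG, Ok.nG, inv_neg, inv_one, neg_neg]
  refine ⟨fun t => ⟨?_, ?_⟩, fun p _ _ hp a b ha hb hfin => ?_⟩
  · rw [e, ← h1]; show _ = _; rw [← map_mul, ← map_mul, negM_commute]
  · rw [e, ← h2]; show _ = _; rw [← map_mul, ← map_mul, negM_commute]
  · haveI := finite_preimage S hN hr hrp φ h1 h2 hfin
    have h := Subgroup.mem_map_of_mem φ (negM_mem p hp ha hb)
    rw [MonoidHom.map_closure, Set.image_pair, h1, h2, ← e] at h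
    exact h

variable {σ : F →+* F} {H : Subgroup (GL D.Idx F)}

theorem hG_fixed (S : Struct D C) (r : ℕ) : phiG σ D (S.ok.hG r (-1 : F)) = S.ok.hG r (-1) := by
  simp only [Ok.hG, map_mul, phiG_nG σ S, map_neg, map_one]

/-- A root element commuting with `h_θ(-1)` has even pairing. -/
theorem odd_zero (K : Core D C T) (hr : 0 < D.rank) (h2 : (2 : F) ≠ 0) {s : ℕ} (hs : s < D.nroots)
    (hodd : (pair D (top D) s).natAbs % 2 ≠ 0) (t : F) :
    K.S.ok.hG (top D) (-1 : F) * K.S.ok.xG s t * (K.S.ok.hG (top D) (-1 : F))⁻¹ = K.S.ok.xG s (-t) := by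
  rw [hG_conj_xG K.S K.hco (top_lt K.S hr).1 hs (neg_ne_zero.2 one_ne_zero)]
  congr 1
  have : Odd (pair D (top D) s) := by
    rw [← Int.natAbs_odd, Nat.odd_iff]
    omega
  rw [this.neg_one_zpow, neg_one_mul]

theorem even_fix (K : Core D C T) (hr : 0 < D.rank) {s : ℕ} (hs : s < D.nroots)
    (hev : (pair D (top D) s).natAbs % 2 = 0) (t : F) :
    Commute (K.S.ok.hG (top D) (-1 : F)) (K.S.ok.xG s t) := by
  have h := hG_conj_xG (F := F) K.S K.hco (top_lt K.S hr).1 hs (neg_ne_zero.2 one_ne_zero) t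
  have : Even (pair D (top D) s) := by rw [← Int.natAbs_even, Nat.even_iff]; exact hev
  rw [this.neg_one_zpow, one_mul, mul_inv_eq_iff_eq_mul] at h
  exact h

theorem hG_conj_Ugen (K : Core D C T) (hr : 0 < D.rank) {k : ℕ} {w : GL D.Idx F}
    (hw : w ∈ K.S.Ugen F k) :
    K.S.ok.hG (top D) (-1 : F) * w * (K.S.ok.hG (top D) (-1 : F))⁻¹ ∈ K.S.Ugen F k := by
  refine Struct.conj_closure_le ?_ w hw
  rintro u ⟨r, t, a, b, rfl⟩
  rw [hG_conj_xG K.S K.hco (top_lt K.S hr).1 b (neg_ne_zero.2 one_ne_zero)]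
  exact K.S.xG_mem_Ugen a b _

theorem lead_even (K : Core D C T) (hr : 0 < D.rank) (h2 : (2 : F) ≠ 0) {k : ℕ} (hk : k < D.nroots)
    (hkp : D.nroots / 2 ≤ k) {t : F} {w : GL D.Idx F} (hw : w ∈ K.S.Ugen F (k + 1))
    (hc : Commute (K.S.ok.hG (top D) (-1 : F)) (K.S.ok.xG k t * w))
    (hodd : (pair D (top D) k).natAbs % 2 ≠ 0) : t = 0 := by
  set h0 := K.S.ok.hG (top D) (-1 : F)
  have e : K.S.ok.xG k (-t) * (h0 * w * h0⁻¹) = K.S.ok.xG k t * w := by
    rw [← odd_zero K hr h2 hk hodd t]
    calc h0 * K.S.ok.xG k t * h0⁻¹ * (h0 * w * h0⁻¹) = h0 * (K.S.ok.xG k t * w) * h0⁻¹ := by group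
      _ = _ := by rw [hc.eq, mul_inv_cancel_right]
  have h : -t = t := lead_eq K.S hk hkp (hG_conj_Ugen K hr hw) hw e
  have : (2 : F) * t = 0 := by linear_combination -h
  exact (mul_eq_zero.1 this).resolve_left h2

/-- The subgroup generated by `X_{±θ}` is normalised by the centraliser of `h_θ(-1)` in `U`. -/
theorem cent_U_normalises (K : Core D C T) (hr : 0 < D.rank) (h2 : (2 : F) ≠ 0) (hO : okTop D Sh r0 = true) :
    ∀ v ∈ D.posUnipotent F, Commute (K.S.ok.hG (top D) (-1 : F)) v →
      ∀ y ∈ Subgroup.closure (Set.range (K.S.ok.xG (F := F) (top D)) ∪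
        Set.range (K.S.ok.xG (D.neg (top D)))),
        v * y * v⁻¹ ∈ Subgroup.closure (Set.range (K.S.ok.xG (F := F) (top D)) ∪
          Set.range (K.S.ok.xG (D.neg (top D)))) := by
  have S := K.S
  have hs := S.hsum
  obtain ⟨t1, t2⟩ := top_lt S hr
  obtain ⟨hnn, -⟩ := S.neg_neg' t1
  set h0 := S.ok.hG (top D) (-1 : F)
  set Y := Subgroup.closure (Set.range (S.ok.xG (F := F) (top D)) ∪ Set.range (S.ok.xG (D.neg (top D))))
  suffices H : ∀ d k, d + k = D.nroots → D.nroots / 2 ≤ k → ∀ v ∈ S.Ugen F k, Commute h0 v →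
      ∀ y ∈ Y, v * y * v⁻¹ ∈ Y by
    intro v hv
    exact H (D.nroots - D.nroots / 2) (D.nroots / 2) (by omega) le_rfl v (by rw [← S.posUnipotent_eq]; exact hv)
  intro d
  induction d with
  | zero =>
    intro k hk _ v hv _ y hy
    rw [S.Ugen_top (by omega), Subgroup.mem_bot] at hv
    simpa [hv] using hy
  | succ d ih =>
    intro k hk hkp v hv hc y hy
    have hkn : k < D.nroots := by omega
    obtain ⟨t, w, hw, rfl⟩ := S.Ugen_split hkn hkp hv
    have hx : Commute h0 (S.ok.xG k t) ∧ S.ok.xG k t ∈ Subgroup.normalizer (Y : Set (GL D.Idx F)) := by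
      by_cases hev : (pair D (top D) k).natAbs % 2 = 0
      · refine ⟨even_fix K hr hkn hev t, ?_⟩
        rcases eq_or_ne k (top D) with hkt | hkt
        · exact Subgroup.le_normalizer (Subgroup.subset_closure (Or.inl ⟨t, by rw [hkt]⟩))
        rcases (top_spec hO hkn).2.1 with h | h | h | ⟨h, h'⟩
        · exact absurd h hkt
        · have := S.neg_lt_half t1 t2; omega
        · exact absurd hev h
        · have hne : S.ok.xG k t ∈ Subgroup.centralizer (Y : Set (GL D.Idx F)) := by
            rw [Subgroup.centralizer_closure, Subgroup.mem_centralizer_iff]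
            rintro z (⟨s, rfl⟩ | ⟨s, rfl⟩)
            · refine (commutes_xG S hkn t1 h ?_ t s).eq.symm
              intro e
              have := S.neg_lt_half hkn hkp
              omega
            · refine (commutes_xG S hkn hnn h' ?_ t s).eq.symm
              intro e'
              have a1 := (S.order_row hkn).1
              have a2 := (S.order_row t1).1
              omega
          exact Subgroup.centralizer_le_normalizer _ hne
      · have ht := lead_even K hr h2 hkn hkp hw hc hev
        rw [ht, S.xG_zero]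
        exact ⟨Commute.one_right _, one_mem _⟩
    have hcw : Commute h0 w := by
      have := (hx.1.inv_right).mul_right hc
      rwa [inv_mul_cancel_left] at this
    have h3 := ih (k + 1) (by omega) (by omega) w hw hcw y hy
    rw [show S.ok.xG k t * w * y * (S.ok.xG k t * w)⁻¹ = S.ok.xG k t * (w * y * w⁻¹) * (S.ok.xG k t)⁻¹ by group]
    exact (Subgroup.mem_normalizer_iff.1 hx.2 _).1 h3

end Cfsg.Lib.Subfield
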