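import Cfsg.Agent.Chev.Subfield.Cert

/-! The certificates evaluated on the seven data. -/

set_option autoImplicit false

open Cfsg.Lie

namespace Cfsg.Lib.Subfield

open Cfsg.Lib.Chev

/-- The short roots. -/
def shG2 : List ℕ := [2, 3, 4, 7, 8, 9]

/-- The short roots. -/
def shB2 : List ℕ := [1, 2, 5, 6]

/-- The short roots. -/
def shF4 : List ℕ := [3, 7, 8, 9, 10, 11, 12, 13, 14, 18, 19, 20, 27, 28, 29, 33, 34, 35, 36, 37, 38, 39, 40, 44]

theorem co_G2 : okCo chevG2 G2.cert = true := by decide +kernel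
theorem co_B2 : okCo chevB2 B2.cert = true := by decide +kernel
theorem co_D4 : okCo chevD4 D4.cert = true := by decide +kernel
theorem co_F4 : okCo chevF4 F4.cert = true := by decide +kernel
theorem co_E6 : okCo chevE6 E6.cert = true := by decide +kernel
theorem co_E7 : okCo chevE7 E7.cert = true := by decide +kernel
theorem co_E8 : okCo chevE8 E8.cert = true := by decide +kernel

theorem long_G2 : okLong chevG2 G2.cert shG2 = true := by decide +kernel
theorem long_B2 : okLong chevB2 B2.cert shB2 = true := by decide +kernel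
theorem long_D4 : okLong chevD4 D4.cert [] = true := by decide +kernel
theorem long_F4 : okLong chevF4 F4.cert shF4 = true := by decide +kernel
theorem long_E6 : okLong chevE6 E6.cert [] = true := by decide +kernel
theorem long_E7 : okLong chevE7 E7.cert [] = true := by decide +kernel
theorem long_E8 : okLong chevE8 E8.cert [] = true := by decide +kernel

theorem top_G2 : okTop chevG2 shG2 7 = true := by decide +kernel
theorem top_B2 : okTop chevB2 shB2 4 = true := by decide +kernel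
theorem top_D4 : okTop chevD4 [] 12 = true := by decide +kernel
theorem top_F4 : okTop chevF4 shF4 25 = true := by decide +kernel
theorem top_E6 : okTop chevE6 [] 36 = true := by decide +kernel
theorem top_E7 : okTop chevE7 [] 63 = true := by decide +kernel
theorem top_E8 : okTop chevE8 [] 121 = true := by decide +kernel

theorem grow_G2 : okGrow chevG2 2 [] = true ∧ okGrow chevG2 3 [9] = true ∧ okGrow chevG2 5 [] = true := by
  decide +kernel
theorem grow_B2 : okGrow chevB2 2 [6] = true ∧ okGrow chevB2 3 [] = true ∧ okGrow chevB2 5 [] = true := by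
  decide +kernel
theorem grow_D4 : okGrow chevD4 2 [] = true ∧ okGrow chevD4 3 [] = true ∧ okGrow chevD4 5 [] = true := by
  decide +kernel
theorem grow_F4 : okGrow chevF4 2 [44] = true ∧ okGrow chevF4 3 [] = true ∧ okGrow chevF4 5 [] = true := by
  decide +kernel
theorem grow_E6 : okGrow chevE6 2 [] = true ∧ okGrow chevE6 3 [] = true ∧ okGrow chevE6 5 [] = true := by
  decide +kernel
theorem grow_E7 : okGrow chevE7 2 [] = true ∧ okGrow chevE7 3 [] = true ∧ okGrow chevE7 5 [] = true := by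
  decide +kernel
theorem grow_E8 : okGrow chevE8 2 [] = true ∧ okGrow chevE8 3 [] = true ∧ okGrow chevE8 5 [] = true := by
  decide +kernel

theorem spread_G2 : okSpread chevG2 G2.cert shG2 [[], [0, 1]] = true := by decide +kernel
theorem spread_B2 : okSpread chevB2 B2.cert shB2 [[], [0]] = true := by decide +kernel
theorem spread_D4 : okSpread chevD4 D4.cert [] [[], [1, 3, 2, 1], [3, 2, 0, 1], [1, 3, 0, 1], [1, 2, 0, 1]] = true := by
  decide +kernel
theorem spread_F4 : okSpread chevF4 F4.cert shF4 [[], [1, 2, 3], [3, 1, 2, 0, 1, 2, 3], [2, 1, 2, 0, 1, 2, 3]] = true := by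
  decide +kernel
theorem spread_E6 : okSpread chevE6 E6.cert [] [[], [2, 3, 4, 5, 1, 3, 4, 2, 3, 1], [3, 4, 5, 2, 3, 4, 0, 2, 3, 1],
    [3, 4, 5, 1, 3, 4, 0, 2, 3, 1], [4, 5, 2, 1, 3, 4, 0, 2, 3, 1], [5, 3, 2, 1, 3, 4, 0, 2, 3, 1],
    [4, 3, 2, 1, 3, 4, 0, 2, 3, 1]] = true := by decide +kernel
theorem spread_E7 : okSpread chevE7 E7.cert [] [[], [2, 3, 4, 5, 6, 1, 3, 4, 5, 2, 3, 4, 1, 3, 2, 0],
    [3, 4, 5, 6, 2, 3, 4, 5, 0, 2, 3, 4, 1, 3, 2, 0], [3, 4, 5, 6, 1, 3, 4, 5, 0, 2, 3, 4, 1, 3, 2, 0],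
    [4, 5, 6, 2, 1, 3, 4, 5, 0, 2, 3, 4, 1, 3, 2, 0], [5, 6, 3, 2, 1, 3, 4, 5, 0, 2, 3, 4, 1, 3, 2, 0],
    [6, 4, 3, 2, 1, 3, 4, 5, 0, 2, 3, 4, 1, 3, 2, 0], [5, 4, 3, 2, 1, 3, 4, 5, 0, 2, 3, 4, 1, 3, 2, 0]] = true := by
  decide +kernel
theorem spread_E8 : okSpread chevE8 E8.cert [] [[],
    [2, 3, 4, 5, 6, 7, 1, 3, 4, 5, 6, 2, 3, 4, 5, 1, 3, 4, 2, 3, 0, 2, 1, 3, 4, 5, 6, 7],
    [3, 4, 5, 6, 7, 2, 3, 4, 5, 6, 0, 2, 3, 4, 5, 1, 3, 4, 2, 3, 0, 2, 1, 3, 4, 5, 6, 7],
    [3, 4, 5, 6, 7, 1, 3, 4, 5, 6, 0, 2, 3, 4, 5, 1, 3, 4, 2, 3, 0, 2, 1, 3, 4, 5, 6, 7],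
    [4, 5, 6, 7, 2, 1, 3, 4, 5, 6, 0, 2, 3, 4, 5, 1, 3, 4, 2, 3, 0, 2, 1, 3, 4, 5, 6, 7],
    [5, 6, 7, 3, 2, 1, 3, 4, 5, 6, 0, 2, 3, 4, 5, 1, 3, 4, 2, 3, 0, 2, 1, 3, 4, 5, 6, 7],
    [6, 7, 4, 3, 2, 1, 3, 4, 5, 6, 0, 2, 3, 4, 5, 1, 3, 4, 2, 3, 0, 2, 1, 3, 4, 5, 6, 7],
    [7, 5, 4, 3, 2, 1, 3, 4, 5, 6, 0, 2, 3, 4, 5, 1, 3, 4, 2, 3, 0, 2, 1, 3, 4, 5, 6, 7],
    [6, 5, 4, 3, 2, 1, 3, 4, 5, 6, 0, 2, 3, 4, 5, 1, 3, 4, 2, 3, 0, 2, 1, 3, 4, 5, 6, 7]] = true := by
  decide +kernel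

theorem partner_D4 : okPartner chevD4 12 = true := by decide +kernel
theorem partner_E6 : okPartner chevE6 36 = true := by decide +kernel
theorem partner_E7 : okPartner chevE7 63 = true := by decide +kernel
theorem partner_E8 : okPartner chevE8 121 = true := by decide +kernel
theorem short_G2 : okShort chevG2 shG2 7 = true := by decide +kernel
theorem short_B2 : okShort chevB2 shB2 6 = true := by decide +kernel
theorem short_F4 : okShort chevF4 shF4 44 = true := by decide +kernel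

theorem conn_G2 : okConn chevG2 G2.htTab = true := by decide +kernel
theorem conn_B2 : okConn chevB2 B2.htTab = true := by decide +kernel
theorem conn_D4 : okConn chevD4 D4.htTab = true := by decide +kernel
theorem conn_F4 : okConn chevF4 F4.htTab = true := by decide +kernel
theorem conn_E6 : okConn chevE6 E6.htTab = true := by decide +kernel
theorem conn_E7 : okConn chevE7 E7.htTab = true := by decide +kernel
theorem conn_E8 : okConn chevE8 E8.htTab = true := by decide +kernel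

end Cfsg.Lib.Subfield
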