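import Cfsg.Agent.Chev.Subfield.Cert
import Cfsg.Agent.Chev.Subfield.CertChk

/-! Certificates for the growth of a root subgroup inside an overgroup. -/

set_option autoImplicit false

open Cfsg.Lie

namespace Cfsg.Lib.Subfield

open Cfsg.Lib.Chev

/-- Commuting and not opposite. -/
noncomputable def okComm (D : ChevalleyDatum) (r s : ℕ) : Bool :=
  Nat.blt r D.nroots && Nat.blt s D.nroots && commutes D r s && !Nat.beq s (D.neg r)

/-- The entries of a word are fundamental. -/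
noncomputable def okWord (D : ChevalleyDatum) (W : List ℕ) : Bool := kall (fun i => Nat.blt i D.rank) W

/-- Two long roots conjugate to the highest one whose sum is the highest one. -/
noncomputable def okA2 (D : ChevalleyDatum) (C : Cert) (Ws : List (List ℕ)) (k : ℕ) : Bool :=
  let a := C.sr k
  let b := C.w k (top D)
  Nat.blt k D.rank && kany (fun W => Nat.beq (wW C W (top D)) a) Ws &&
  Nat.ble (Nat.div D.nroots 2) b && !Nat.beq a b &&
  match D.commTerms a b with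
  | [(v, c, i, j)] => Nat.beq v (top D) && Nat.beq c.natAbs 1 && Nat.beq i 1 && Nat.beq j 1
  | _ => false

/-- The rank two data of a double bond. -/
structure BData where
  /-- long -/
  a : ℕ
  /-- short -/
  b : ℕ
  /-- their sum -/
  m : ℕ
  /-- a word sending the highest root to `a` -/
  wa : List ℕ
  /-- exchanges `b` and `a + b` -/
  w1 : List ℕ
  /-- exchanges the highest root and `-a` -/
  w2 : List ℕ
  /-- fixes `-a`, negates the highest root -/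
  w3 : List ℕ

/-- The facts on the rank two data. -/
noncomputable def okB (D : ChevalleyDatum) (C : Cert) (B : BData) : Bool :=
  let th := top D
  let h := Nat.div D.nroots 2
  let na := D.neg B.a
  let nm := D.neg B.m
  let nt := D.neg th
  Nat.ble h B.a && Nat.blt B.a D.nroots && Nat.ble h B.b && Nat.blt B.b D.nroots &&
  Nat.ble h B.m && Nat.blt B.m th && !Nat.beq B.a B.b && !Nat.beq th nm &&
  okWord D B.wa && okWord D B.w1 && okWord D B.w2 && okWord D B.w3 &&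
  Nat.beq (wW C B.wa th) B.a &&
  Nat.beq (wW C B.w1 th) th && Nat.beq (wW C B.w1 B.m) B.b && Nat.beq (wW C B.w1 B.b) B.m &&
  Nat.beq (wW C B.w2 th) na && Nat.beq (wW C B.w2 na) th && Nat.beq (wW C B.w2 B.b) B.b &&
  Nat.beq (wW C B.w3 th) nt && Nat.beq (wW C B.w3 na) na &&
  (match D.commTerms B.a B.b with
  | [(v, c, i, j), (v', c', i', j')] => Nat.beq v B.m && Nat.beq c.natAbs 1 && Nat.beq i 1 && Nat.beq j 1 &&
      Nat.beq v' th && Nat.beq c'.natAbs 1 && Nat.beq i' 1 && Nat.beq j' 2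
  | _ => false) &&
  (match D.commTerms th nm with
  | [(v, c, i, j), (v', c', i', j')] => Nat.beq v B.b && Nat.beq c.natAbs 1 && Nat.beq i 1 && Nat.beq j 1 &&
      Nat.beq v' na && Nat.beq c'.natAbs 1 && Nat.beq i' 1 && Nat.beq j' 2
  | _ => false) &&
  kall (fun q => Nat.beq (Nat.mod q.2.1.natAbs 2) 0) (D.commTerms B.b nm) && !Nat.beq B.b B.m &&
  okComm D B.m th && okComm D B.a th && okComm D B.b th && okComm D B.b na && okComm D na th && okComm D na nt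

/-- The short roots of `G₂` in characteristic three. -/
noncomputable def okG (D : ChevalleyDatum) (C : Cert) (s : ℕ) (w v : List ℕ) : Bool :=
  let th := top D
  let h := Nat.div D.nroots 2
  let r := wW C w s
  let q := wW C v s
  okWord D w && okWord D v && Nat.ble h s && Nat.blt s th && Nat.ble h r && Nat.ble h q && !Nat.beq r q &&
  Nat.beq (wW C w th) th && okComm D q th && Nat.beq (pair D s th).natAbs 3 &&
  match D.commTerms r q with
  | [] => false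
  | x :: rest => Nat.beq x.1 s && Nat.beq x.2.2.1 1 && Nat.beq x.2.2.2 1 && !Nat.beq (Nat.mod x.2.1.natAbs 3) 0 &&
      kall (fun y => Nat.beq (Nat.mod y.2.1.natAbs 3) 0) rest

/-- The data of `B₂`. -/
def bB2 : BData := ⟨4, 5, 6, [0], [1], [1, 0, 1], [0, 1, 0]⟩

/-- The data of `F₄`. -/
def bF4 : BData := ⟨41, 29, 44, [3, 2, 1, 2, 3], [0, 1, 2, 1, 0], [0, 1, 2, 3, 1, 2, 0, 1, 2, 3, 0, 1, 2, 1, 0],
  [3, 2, 1, 2, 0, 1, 2, 3, 2, 1, 2, 0, 1, 2, 3]⟩

theorem b_B2 : okB chevB2 B2.cert bB2 = true := by decide +kernel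
theorem b_F4 : okB chevF4 F4.cert bF4 = true := by decide +kernel
theorem g_G2 : okG chevG2 G2.cert 9 [0] [1, 0] = true := by decide +kernel

theorem a2_G2 : okA2 chevG2 G2.cert [[], [0, 1]] 1 = true := by decide +kernel
theorem a2_D4 : okA2 chevD4 D4.cert [[], [1, 3, 2, 1], [3, 2, 0, 1], [1, 3, 0, 1], [1, 2, 0, 1]] 1 = true := by
  decide +kernel
theorem a2_F4 : okA2 chevF4 F4.cert [[], [2, 1, 0, 2, 1, 2, 3], [2, 1, 2, 0, 1, 2, 3]] 3 = true := by decide +kernel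
theorem a2_E6 : okA2 chevE6 E6.cert [[3, 2, 0, 4, 5, 3, 2, 4, 3, 1]] 1 = true := by decide +kernel
theorem a2_E7 : okA2 chevE7 E7.cert [[2, 3, 1, 4, 3, 2, 5, 6, 4, 5, 3, 1, 4, 3, 2, 0]] 0 = true := by decide +kernel
theorem a2_E8 : okA2 chevE8 E8.cert [
    [2, 3, 4, 5, 6, 7, 1, 3, 4, 5, 6, 2, 3, 4, 5, 1, 3, 4, 2, 3, 0, 2, 1, 3, 4, 5, 6, 7],
    [3, 4, 5, 6, 7, 2, 3, 4, 5, 6, 0, 2, 3, 4, 5, 1, 3, 4, 2, 3, 0, 2, 1, 3, 4, 5, 6, 7],
    [3, 4, 5, 6, 7, 1, 3, 4, 5, 6, 0, 2, 3, 4, 5, 1, 3, 4, 2, 3, 0, 2, 1, 3, 4, 5, 6, 7],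
    [4, 5, 6, 7, 2, 1, 3, 4, 5, 6, 0, 2, 3, 4, 5, 1, 3, 4, 2, 3, 0, 2, 1, 3, 4, 5, 6, 7],
    [5, 6, 7, 3, 2, 1, 3, 4, 5, 6, 0, 2, 3, 4, 5, 1, 3, 4, 2, 3, 0, 2, 1, 3, 4, 5, 6, 7],
    [6, 7, 4, 3, 2, 1, 3, 4, 5, 6, 0, 2, 3, 4, 5, 1, 3, 4, 2, 3, 0, 2, 1, 3, 4, 5, 6, 7],
    [7, 5, 4, 3, 2, 1, 3, 4, 5, 6, 0, 2, 3, 4, 5, 1, 3, 4, 2, 3, 0, 2, 1, 3, 4, 5, 6, 7],
    [6, 5, 4, 3, 2, 1, 3, 4, 5, 6, 0, 2, 3, 4, 5, 1, 3, 4, 2, 3, 0, 2, 1, 3, 4, 5, 6, 7]] 7 = true := by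
  decide +kernel

end Cfsg.Lib.Subfield
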