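import Cfsg.Agent.Chev.Subfield.Cent

/-! A coset of a standard parabolic subgroup fixed by the field map has a rational representative. -/

set_option autoImplicit false

open Cfsg.Lie Cfsg.Lib.Steinberg

namespace Cfsg.Lib.Subfield

open Cfsg.Lib.Chev

variable {D : ChevalleyDatum} {C : Cert} {T : List (List ℤ)} {F : Type*} [Field F]

/-- Weakly raising the grading outside `J`. -/
def Weak (T : List (List ℤ)) (J : Set ℕ) (M : Matrix D.Idx D.Idx F) : Prop :=
  ∀ x y, M x y ≠ 0 → ∀ i < D.rank, i ∉ J → Struct.wtJ T i y ≤ Struct.wtJ T i x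

/-- Strictly lowering the grading outside `J`. -/
def Fall (T : List (List ℤ)) (J : Set ℕ) (M : Matrix D.Idx D.Idx F) : Prop :=
  ∀ x y, M x y ≠ 0 → (∀ i < D.rank, i ∉ J → Struct.wtJ T i x ≤ Struct.wtJ T i y) ∧
    ∃ i < D.rank, i ∉ J ∧ Struct.wtJ T i x < Struct.wtJ T i y

theorem Weak.mul {J : Set ℕ} {A B : Matrix D.Idx D.Idx F} (hA : Weak T J A) (hB : Weak T J B) :
    Weak T J (A * B) := by
  intro x y h i hi hJ
  rw [Matrix.mul_apply] at h
  obtain ⟨z, -, hz⟩ := Finset.exists_ne_zero_of_sum_ne_zero h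
  exact (hB z y (right_ne_zero_of_mul hz) i hi hJ).trans (hA x z (left_ne_zero_of_mul hz) i hi hJ)

theorem Fall.mul {J : Set ℕ} {A B : Matrix D.Idx D.Idx F} (hA : Fall T J A) (hB : Fall T J B) :
    Fall T J (A * B) := by
  intro x y h
  rw [Matrix.mul_apply] at h
  obtain ⟨z, -, hz⟩ := Finset.exists_ne_zero_of_sum_ne_zero h
  obtain ⟨a1, i, hi, hJ, a2⟩ := hA x z (left_ne_zero_of_mul hz)
  obtain ⟨b1, -⟩ := hB z y (right_ne_zero_of_mul hz)
  exact ⟨fun k hk hkJ => (a1 k hk hkJ).trans (b1 k hk hkJ), i, hi, hJ, a2.trans_le (b1 i hi hJ)⟩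

theorem Fall.add {J : Set ℕ} {A B : Matrix D.Idx D.Idx F} (hA : Fall T J A) (hB : Fall T J B) :
    Fall T J (A + B) := by
  intro x y h
  by_cases ha : A x y = 0
  · refine hB x y fun hb => h ?_
    rw [Matrix.add_apply, ha, hb, add_zero]
  · exact hA x y ha

/-- The parabolic subgroup meets the opposite radical trivially. -/
theorem eq_one_of_fall (K : Core D C T) {J : Set ℕ} {g : GL D.Idx F}
    (hP : g ∈ D.parabolicSubgroup F J)
    (hg : g ∈ Subgroup.closure {x : GL D.Idx F | ∃ (r : ℕ) (t : F), r < D.nroots / 2 ∧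
      ¬ D.InRootSub J r ∧ x = K.S.ok.xG r t}) : g = 1 := by
  have S := K.S
  have hT := K.hT
  have h1 : Weak T J (1 : Matrix D.Idx D.Idx F) := fun x y h i _ _ => by
    by_cases e : x = y
    · rw [e]
    · exact absurd (Matrix.one_apply_ne e) h
  have h0 : Fall T J (0 : Matrix D.Idx D.Idx F) := fun x y h => absurd rfl h
  let W : Subgroup (GL D.Idx F) :=
    { carrier := {g | Weak T J (g : Matrix D.Idx D.Idx F) ∧
        Weak T J ((g⁻¹ : GL D.Idx F) : Matrix D.Idx D.Idx F)}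
      one_mem' := ⟨by rw [Units.val_one]; exact h1, by rw [inv_one, Units.val_one]; exact h1⟩
      mul_mem' := fun {a b} ha hb => ⟨by rw [Units.val_mul]; exact ha.1.mul hb.1,
        by rw [mul_inv_rev, Units.val_mul]; exact hb.2.mul ha.2⟩
      inv_mem' := fun {a} ha => ⟨ha.2, by rw [inv_inv]; exact ha.1⟩ }
  let V : Subgroup (GL D.Idx F) :=
    { carrier := {g | Fall T J ((g : Matrix D.Idx D.Idx F) - 1) ∧
        Fall T J (((g⁻¹ : GL D.Idx F) : Matrix D.Idx D.Idx F) - 1)}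
      one_mem' := ⟨by rw [Units.val_one, sub_self]; exact h0,
        by rw [inv_one, Units.val_one, sub_self]; exact h0⟩
      mul_mem' := fun {a b} ha hb => by
        have e : ∀ A B : Matrix D.Idx D.Idx F, A * B - 1 = (A - 1) * (B - 1) + (A - 1) + (B - 1) :=
          fun A B => by noncomm_ring
        exact ⟨by rw [Units.val_mul, e]; exact ((ha.1.mul hb.1).add ha.1).add hb.1,
          by rw [mul_inv_rev, Units.val_mul, e]; exact ((hb.2.mul ha.2).add hb.2).add ha.2⟩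
      inv_mem' := fun {a} ha => ⟨ha.2, by rw [inv_inv]; exact ha.1⟩ }
  have hPW : D.parabolicSubgroup F J ≤ W := by
    rw [S.parabolic_eq hT K.hDesc J]
    refine sup_le ?_ ((Subgroup.closure_le _).2 ?_)
    · intro g hg
      have : ∀ g ∈ D.diagonalSubgroup F, Weak T J ((g : GL D.Idx F) : Matrix D.Idx D.Idx F) := by
        intro g hg x y h i _ _
        by_cases e : x = y
        · rw [e]
        · exact absurd (S.diag_apply_ne hg e) h
      exact ⟨this g hg, this _ (inv_mem hg)⟩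
    · rintro g ⟨r, t, hr, hg⟩
      rw [S.ok.eq_xG hg]
      have hrn : r < D.nroots := hr.elim (fun h => h.1) (fun h => h.1)
      have key : ∀ t : F, Weak T J ((S.ok.xG r t : GL D.Idx F) : Matrix D.Idx D.Idx F) := by
        intro t x y h i hi hiJ
        by_cases e : x = y
        · rw [e]
        rw [S.ok.val_xG] at h
        obtain ⟨k, -, hk⟩ := S.entry_ht hT hrn t (x := x) (y := y) (by
          rwa [Matrix.sub_apply, Matrix.one_apply_ne e, sub_zero])
        have h0 : 0 ≤ htAt T r i := hr.elim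
          (fun h => S.ht_nonneg hT (S.isPos_iff.1 h).1 h.1 hi)
          (fun h => (((Struct.inRootSub_iff hT).1 h).2 i hi hiJ).ge)
        rw [hk i hi]
        nlinarith [mul_nonneg (Int.natCast_nonneg k) h0]
      refine ⟨key t, ?_⟩
      rw [S.ok.xG_inv]
      exact key (-t)
  have hgV : g ∈ V := by
    refine (Subgroup.closure_le V).2 ?_ hg
    rintro x ⟨r, t, hr, hrJ, rfl⟩
    obtain ⟨n1, n2, n3⟩ := S.neg_pos hr
    have hs := S.hsum
    have hrn : r < D.nroots := by omega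
    obtain ⟨i, hi, hiJ, hri⟩ : ∃ i < D.rank, i ∉ J ∧ htAt T r i ≠ 0 := by
      by_contra hcon
      push Not at hcon
      exact hrJ ((Struct.inRootSub_iff hT).2 ⟨hrn, hcon⟩)
    have hnn : ∀ i < D.rank, htAt T r i ≤ 0 := fun i hi => by
      have := S.ht_nonneg hT n1 n2 hi
      rw [(ht_row hT hrn hi).1] at this
      omega
    have key : ∀ t : F, Fall T J (((S.ok.xG r t : GL D.Idx F) : Matrix D.Idx D.Idx F) - 1) := by
      intro t x y h
      rw [S.ok.val_xG] at h
      obtain ⟨k, hk1, hk⟩ := S.entry_ht hT hrn t h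
      refine ⟨fun j hj _ => ?_, i, hi, hiJ, ?_⟩
      · rw [hk j hj]; nlinarith [hnn j hj]
      · rw [hk i hi]
        have : htAt T r i < 0 := lt_of_le_of_ne (hnn i hi) hri
        have hk1' : (1 : ℤ) ≤ k := by exact_mod_cast hk1
        nlinarith
    refine ⟨key t, ?_⟩
    rw [S.ok.xG_inv]
    exact key (-t)
  refine Units.ext ?_
  rw [Units.val_one, ← sub_eq_zero]
  refine Matrix.ext fun x y => ?_
  by_contra h
  obtain ⟨-, i, hi, hiJ, hlt⟩ := hgV.1 x y h
  have hxy : x ≠ y := fun e => by rw [e] at hlt; exact lt_irrefl _ hlt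
  refine absurd ((hPW hP).1 x y (fun h0 => h ?_) i hi hiJ) (not_le.2 hlt)
  show (g : Matrix D.Idx D.Idx F) x y - (1 : Matrix D.Idx D.Idx F) x y = 0
  rw [h0, Matrix.one_apply_ne hxy, sub_zero]

/-- Every coset of `P_J` contains `v n` with `v ∈ U` and `n` a word of minimal type. -/
theorem min_rep (K : Core D C T) (J : Set ℕ) {g : GL D.Idx F} (hg : g ∈ D.group F) :
    ∃ v ∈ D.posUnipotent F, ∃ L : List (Fin D.rank),
      (∀ j : Fin D.rank, j.val ∈ J → D.nroots / 2 ≤ (K.S.wpL L (K.S.sp j)).val) ∧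
      (v * K.S.nL F L)⁻¹ * g ∈ D.parabolicSubgroup F J := by
  classical
  have S := K.S
  let W := {w : Equiv.Perm (Fin D.nroots) // ∃ b ∈ D.borelSubgroup F, ∃ L : List (Fin D.rank),
    w = S.wpL L ∧ (b * S.nL F L)⁻¹ * g ∈ D.parabolicSubgroup F J}
  haveI : Nonempty W := by
    obtain ⟨b, hb, n, hn, L, hact, u, hu, e⟩ := S.normal_form K.hN hg
    obtain ⟨L', hact', hiff⟩ := S.exists_act (mul_mem (inv_mem (S.nL_mem_mono (F := F) L)) hn)
    have hd : (S.nL F L)⁻¹ * n ∈ D.diagonalSubgroup F := by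
      refine hiff.1 ?_
      have h1 := S.act_mul (act_inv S (S.nL_mem_mono L) (S.act_nL (F := F) L)) hact
      rw [inv_mul_cancel] at h1
      exact S.act_unique hact' h1
    refine ⟨⟨_, b, hb, L, rfl, ?_⟩⟩
    rw [show (b * S.nL F L)⁻¹ * g = (S.nL F L)⁻¹ * n * u by rw [e]; group]
    exact Subgroup.mem_sup_left (mul_mem (Subgroup.mem_sup_right hd) (S.B_le_of (S.UPsi_le _ hu)))
  let Φ := Finset.univ.filter fun r : Fin D.nroots => D.nroots / 2 ≤ r.val ∧ D.InRootSub J r.val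
  let tot : Fin D.nroots → ℤ := fun r => ∑ k : Fin D.rank, htAt T r.val k
  obtain ⟨⟨w, b, hb, L, rfl, hP⟩, hmax⟩ := Finite.exists_max fun w : W => ∑ r ∈ Φ, tot (w.1 r)
  obtain ⟨v, hv, d, hd, rfl⟩ := S.borel_decomp hb
  refine ⟨v, hv, L, fun j hj => ?_, ?_⟩
  · by_contra hcon
    push Not at hcon
    have hn : S.ok.nG (D.simple j.val) (1 : F) ∈ D.parabolicSubgroup F J :=
      Subgroup.mem_sup_right (Subgroup.subset_closure ⟨j, hj, j.isLt, S.ok.val_nG _ _⟩)
    have hnL : S.nL F (L ++ [j]) = S.nL F L * S.ok.nG (D.simple j.val) 1 := by simp [Struct.nL]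
    have h := hmax ⟨S.wpL (L ++ [j]), v * d, hb, L ++ [j], rfl, by
      rw [hnL, show (v * d * (S.nL F L * S.ok.nG (D.simple j.val) 1))⁻¹ * g =
        (S.ok.nG (D.simple j.val) (1 : F))⁻¹ * ((v * d * S.nL F L)⁻¹ * g) by group]
      exact mul_mem (inv_mem hn) hP⟩
    simp only [show S.wpL (L ++ [j]) = S.wpL L * S.wp j by simp [Struct.wpL], Equiv.Perm.mul_apply] at h
    have hmem : S.sp j ∈ Φ := by
      refine Finset.mem_filter.2 ⟨Finset.mem_univ _, S.sr_pos j.isLt, (Struct.inRootSub_iff K.hT).2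
        ⟨S.ok.sr_lt j.isLt, fun i hi hiJ => ?_⟩⟩
      show htAt T (C.sr j.val) i = 0
      rw [S.ok.sr_eq j.isLt, ht_simple K.hT j.isLt hi, if_neg (fun (e : j.val = i) => hiJ (e ▸ hj))]
    have hperm : ∀ r ∈ Φ.erase (S.sp j), S.wp j r ∈ Φ.erase (S.sp j) := by
      intro r hr
      obtain ⟨hne, hr⟩ := Finset.mem_erase.1 hr
      obtain ⟨-, h1, h2⟩ := Finset.mem_filter.1 hr
      have hne' : r.val ≠ C.sr j.val := fun e => hne (Fin.ext e)
      refine Finset.mem_erase.2 ⟨fun e => ?_, Finset.mem_filter.2 ⟨Finset.mem_univ _,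
        by rw [Struct.wp_val]; exact S.pos_w j.isLt h1 r.isLt hne',
        (Struct.inRootSub_iff K.hT).2 ⟨Fin.isLt _, fun i hi hiJ => ?_⟩⟩⟩
      · have h3 : r = S.wp j (S.sp j) := by
          rw [← e, ← Equiv.Perm.mul_apply, S.wp_mul_self, Equiv.Perm.one_apply]
        rw [h3, Struct.wp_val, show (S.sp j).val = C.sr j.val from rfl, (S.ok.refl_simple j.isLt).1,
          S.ok.neg_eq (S.ok.sr_lt j.isLt)] at h1
        have := S.neg_lt_half (S.ok.sr_lt j.isLt) (S.sr_pos j.isLt)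
        omega
      · rw [Struct.wp_val, lin_ne K.hl j.isLt r.isLt hi (fun (e : i = j.val) => hiJ (e ▸ hj))]
        exact ((Struct.inRootSub_iff K.hT).1 h2).2 i hi hiJ
    have himg : (Φ.erase (S.sp j)).image (S.wp j) = Φ.erase (S.sp j) :=
      Finset.eq_of_subset_of_card_le (Finset.image_subset_iff.2 hperm)
        (le_of_eq (Finset.card_image_of_injective _ (S.wp j).injective).symm)
    rw [← Finset.add_sum_erase _ _ hmem, ← Finset.add_sum_erase (a := S.sp j) _ _ hmem] at h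
    have hs2 : ∑ r ∈ Φ.erase (S.sp j), tot (S.wpL L (S.wp j r)) = ∑ r ∈ Φ.erase (S.sp j), tot (S.wpL L r) := by
      conv_rhs => rw [← himg, Finset.sum_image fun a _ b _ h => (S.wp j).injective h]
    have hlt := S.neg_lt_half (S.ok.sr_lt j.isLt) (S.sr_pos j.isLt)
    have hnn : D.neg (C.sr j.val) < D.nroots := by have := S.hsum; omega
    have e1 : S.wp j (S.sp j) = ⟨D.neg (C.sr j.val), hnn⟩ := Fin.ext (by
      rw [Struct.wp_val, Struct.sp, (S.ok.refl_simple j.isLt).1, S.ok.neg_eq (S.ok.sr_lt j.isLt)])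
    have e2 : tot (S.wpL L (S.wp j (S.sp j))) = -tot (S.wpL L (S.sp j)) := by
      rw [e1]
      simp only [tot, ← Finset.sum_neg_distrib]
      refine Finset.sum_congr rfl fun k _ => ?_
      rw [show (S.wpL L ⟨D.neg (C.sr j.val), hnn⟩).val = D.neg (S.wpL L (S.sp j)).val from
        S.wp_neg L (S.sp j) hnn, (ht_row K.hT (Fin.isLt _) k.isLt).1]
    have e3 : tot (S.wpL L (S.sp j)) < 0 := by
      set s := S.wpL L (S.sp j)
      obtain ⟨n1, n2, n3⟩ := S.neg_pos hcon
      obtain ⟨k, hk, hk0⟩ := exists_ne_zero K.hl s.isLt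
      have hle : ∀ i : Fin D.rank, htAt T s.val i ≤ 0 := fun i => by
        have := S.ht_nonneg K.hT n1 n2 i.isLt
        rw [(ht_row K.hT s.isLt i.isLt).1] at this
        omega
      exact Finset.sum_neg' (fun i _ => hle i)
        ⟨⟨k, hk⟩, Finset.mem_univ _, lt_of_le_of_ne (hle ⟨k, hk⟩) hk0⟩
    rw [hs2, e2] at h
    linarith
  · have hd' : (S.nL F L)⁻¹ * d * S.nL F L ∈ D.parabolicSubgroup F J := by
      have := S.norm_diag (inv_mem (S.nL_mem_mono L)) hd
      rw [inv_inv] at this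
      exact Subgroup.mem_sup_left (Subgroup.mem_sup_right this)
    rw [show (v * S.nL F L)⁻¹ * g =
      ((S.nL F L)⁻¹ * d * S.nL F L) * ((v * d * S.nL F L)⁻¹ * g) by group]
    exact mul_mem hd' hP

variable (σ : F →+* F)

/-- The field map preserves the standard parabolic subgroups. -/
theorem phiG_parabolic (K : Core D C T) {J : Set ℕ} {g : GL D.Idx F}
    (hg : g ∈ D.parabolicSubgroup F J) : phiG σ D g ∈ D.parabolicSubgroup F J := by
  have hle : D.parabolicSubgroup F J ≤ (D.parabolicSubgroup F J).comap (phiG σ D) := by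
    refine sup_le (fun x hx => ?_) ((Subgroup.closure_le _).2 ?_)
    · obtain ⟨v, hv, d, hd, rfl⟩ := K.S.borel_decomp hx
      rw [Subgroup.mem_comap, map_mul]
      have h1 : phiG σ D v * phiG σ D d ∈ D.borelSubgroup F :=
        mul_mem (K.S.B_le_of (phiG_pos σ K.S hv)) (Subgroup.mem_sup_right (phiG_diag σ K.S hd))
      exact Subgroup.mem_sup_left h1
    · rintro x ⟨j, hj, hjr, hx⟩
      rw [SetLike.mem_coe, Subgroup.mem_comap]
      rw [show x = K.S.ok.nG (D.simple j) 1 from Units.ext (by rw [hx, K.S.ok.val_nG]),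
        phiG_nG σ K.S, map_one]
      exact Subgroup.mem_sup_right (Subgroup.subset_closure ⟨j, hj, hjr, K.S.ok.val_nG _ _⟩)
  exact hle hg

/-- A coset of `P_J` stable under the field map has a rational representative. -/
theorem coset_rat (K : Core D C T) (J : Set ℕ) {g : GL D.Idx F} (hg : g ∈ D.group F)
    (h : g⁻¹ * phiG σ D g ∈ D.parabolicSubgroup F J) :
    ∃ m ∈ ratGroup D σ, m⁻¹ * g ∈ D.parabolicSubgroup F J := by
  have S := K.S
  have hs := S.hsum
  obtain ⟨v, hv, L, hpos, hp⟩ := min_rep K J hg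
  set n := S.nL F L
  set p := (v * n)⁻¹ * g
  have hδ : n⁻¹ * (v⁻¹ * phiG σ D v) * n ∈ D.parabolicSubgroup F J := by
    rw [show n⁻¹ * (v⁻¹ * phiG σ D v) * n = p * (g⁻¹ * phiG σ D g) * (phiG σ D p)⁻¹ by
      rw [show phiG σ D p = (phiG σ D v * n)⁻¹ * phiG σ D g by
        simp only [p, n, map_mul, map_inv, phiG_nL σ S]]
      simp only [p]
      group]
    exact mul_mem (mul_mem hp h) (inv_mem (phiG_parabolic σ K hp))
  have hwi : (S.wpL L)⁻¹ ∈ S.WG := inv_mem (S.wpL_mem_WG L)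
  have hact : Act S.ok n⁻¹ (S.wpL L)⁻¹ := act_inv S (S.nL_mem_mono L) (S.act_nL L)
  set Ψ : Fin D.nroots → Prop := fun r => ¬ Struct.Neg D (S.wpL L)⁻¹ r
  have hcl : ClosedPsi D Ψ := closed_notNeg S K.hT K.hl hwi
  have hW : v⁻¹ * phiG σ D v ∈ S.UPsi F Ψ := by
    have hmem : v⁻¹ * phiG σ D v ∈ S.Ugen F (D.nroots / 2) := by
      rw [← S.posUnipotent_eq]; exact mul_mem (inv_mem hv) (phiG_pos σ S hv)
    obtain ⟨a, ha, b, hb, e⟩ := S.split_Ugen Ψ (D.nroots - D.nroots / 2) (D.nroots / 2) (by omega) le_rfl _ hmem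
    have hb' : n⁻¹ * b * n⁻¹⁻¹ ∈ D.parabolicSubgroup F J :=
      Subgroup.mem_sup_left (S.B_le_of (S.conj_Pos hact hb))
    have ha' : n⁻¹ * a * n⁻¹⁻¹ ∈ D.parabolicSubgroup F J := by
      rw [show n⁻¹ * a * n⁻¹⁻¹ = (n⁻¹ * (v⁻¹ * phiG σ D v) * n) * (n⁻¹ * b * n⁻¹⁻¹)⁻¹ by rw [e]; group]
      exact mul_mem hδ (inv_mem hb')
    have h1 : n⁻¹ * a * n⁻¹⁻¹ = 1 := by
      refine eq_one_of_fall K ha' (Struct.conj_closure_le ?_ a ha)
      rintro x ⟨r, t, hr, hneg, rfl⟩
      obtain ⟨-, c, -, er⟩ := hact r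
      rw [(er t).1]
      refine Subgroup.subset_closure ⟨_, _, not_not.1 hneg, fun hin => ?_, rfl⟩
      -- a root of `Φ_J` keeps its sign
      set q := (S.wpL L)⁻¹ r
      have hq : (q : Fin D.nroots).val < D.nroots / 2 := not_not.1 hneg
      obtain ⟨n1, n2, n3⟩ := S.neg_pos hq
      obtain ⟨k, hk, hk0⟩ := exists_ne_zero K.hl r.isLt
      have hle : htAt T r.val k ≤ 0 := by
        have e : r = S.wpL L q := (Equiv.apply_symm_apply (S.wpL L) r).symm
        rw [e, ht_wpL S K.hT K.hl L q k hk]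
        refine Finset.sum_nonpos fun j _ => ?_
        have hle : htAt T q.val j ≤ 0 := by
          have := S.ht_nonneg K.hT n1 n2 j.isLt
          rw [(ht_row K.hT q.isLt j.isLt).1] at this
          omega
        by_cases hj : j.val ∈ J
        · exact mul_nonpos_of_nonpos_of_nonneg hle (S.ht_nonneg K.hT (hpos j hj) (Fin.isLt _) hk)
        · rw [((Struct.inRootSub_iff K.hT).1 hin).2 j j.isLt hj, zero_mul]
      have := S.ht_nonneg K.hT hr r.isLt hk
      omega
    rw [mul_inv_eq_one, mul_eq_left] at h1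
    rw [e, h1, one_mul]
    exact hb
  obtain ⟨m, hm, -, hmW⟩ := strip_rat σ S (S.UPsi F Ψ) (fun k => ∃ hk : k < D.nroots, Ψ ⟨k, hk⟩)
    (fun k hk _ hΨ t => S.mem_UPsi (r := ⟨k, hΨ.1⟩) hk hΨ.2 t)
    (fun k hk hkn hΨ t w hw hmem => UPsi_zero S hcl hkn hk (fun e => hΨ ⟨hkn, e⟩) hw hmem) v hv hW
  refine ⟨m * n, mul_mem hm (nL_mem_rat σ S L), ?_⟩
  rw [show (m * n)⁻¹ * g = n⁻¹ * (m⁻¹ * v) * n⁻¹⁻¹ * p by simp only [p]; group]
  exact mul_mem (Subgroup.mem_sup_left (S.B_le_of (S.conj_Pos hact hmW))) hp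

/-- Fixed points of the field map modulo `B`. -/
theorem coset_rat_borel (K : Core D C T) {g : GL D.Idx F} (hg : g ∈ D.group F)
    (h : g⁻¹ * phiG σ D g ∈ D.borelSubgroup F) :
    ∃ m ∈ ratGroup D σ, m⁻¹ * g ∈ D.borelSubgroup F := by
  have e : D.parabolicSubgroup F (∅ : Set ℕ) = D.borelSubgroup F :=
    le_antisymm (sup_le le_rfl ((Subgroup.closure_le _).2 (by rintro x ⟨j, hj, -⟩; exact absurd hj (Set.notMem_empty j))))
      le_sup_left
  obtain ⟨m, hm, h'⟩ := coset_rat σ K ∅ hg (by rw [e]; exact h)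
  exact ⟨m, hm, e ▸ h'⟩

end Cfsg.Lib.Subfield
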