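import Cfsg.Agent.Chev.Subfield.Step
import Cfsg.Agent.Chev.Subfield.Cert2
import Cfsg.Agent.Chev.LevelSets

/-! Moving root elements by rational words; a full long root subgroup forces the whole group. -/

set_option autoImplicit false

open Cfsg.Lie

namespace Cfsg.Lib.Subfield

open Cfsg.Lib.Chev

variable {D : ChevalleyDatum} {C : Cert} {T : List (List ℤ)} {F : Type*} [Field F]

/-- A sign. -/
def IsSign (η : F) : Prop := η = 1 ∨ η = -1

theorem IsSign.mul_self {η : F} (h : IsSign η) : η * η = 1 := by rcases h with rfl | rfl <;> ring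

theorem IsSign.ne {η : F} (h : IsSign η) : η ≠ 0 := by rcases h with rfl | rfl <;> simp

theorem IsSign.mul {η ξ : F} (h : IsSign η) (h' : IsSign ξ) : IsSign (η * ξ) := by
  rcases h with rfl | rfl <;> rcases h' with rfl | rfl <;> simp [IsSign]

theorem sign_of_natAbs {c : ℤ} (h : c.natAbs = 1) : IsSign (c : F) := by
  rcases Int.natAbs_eq c with e | e <;> rw [e, h] <;> simp [IsSign]

theorem sign_eta (i r : ℕ) : IsSign (C.eta i r : F) := by
  unfold Cert.eta
  cases Nat.beq (Nat.land (Nat.shiftRight (C.sgn.getD i 0) r) 1) 1 <;> simp [IsSign]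

theorem nL_conj (S : Struct D C) : ∀ (L : List (Fin D.rank)) (r : Fin D.nroots),
    ∃ η : F, IsSign η ∧ ∀ t : F,
      S.nL F L * S.ok.xG r.val t * (S.nL F L)⁻¹ = S.ok.xG (S.wpL L r).val (η * t) := by
  intro L
  induction L with
  | nil => exact fun r => ⟨1, Or.inl rfl, fun t => by simp [Struct.nL, Struct.wpL]⟩
  | cons i L ih =>
    intro r
    obtain ⟨η, hη, e⟩ := ih r
    refine ⟨(C.eta i.val (S.wpL L r).val : F) * η, (sign_eta _ _).mul hη, fun t => ?_⟩
    have e1 := S.ok.conj_nG_xG (F := F) i.isLt (S.wpL L r).isLt (η * t)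
    simp only [Struct.nL, Struct.wpL, List.map_cons, List.prod_cons, Equiv.Perm.mul_apply, Struct.wp_val] at e e1 ⊢
    rw [mul_assoc (C.eta i.val _ : F), ← e1, ← e t]
    group

variable {σ : F →+* F} {H : Subgroup (GL D.Idx F)}

/-- The rational root elements and the conjugations by words available in an overgroup. -/
theorem nL_mem (S : Struct D C) (hRH : ratGroup D σ ≤ H) (L : List (Fin D.rank)) :
    S.nL F L ∈ H :=
  hRH (nL_mem_rat σ S L)

theorem xG_rat_mem (S : Struct D C) (hRH : ratGroup D σ ≤ H) (r : ℕ) {t : F}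
    (ht : σ t = t) : S.ok.xG r t ∈ H :=
  hRH (xG_rat σ S r ht)

theorem wW_eq (W : List ℕ) (r : ℕ) : wW C W r = W.foldr C.w r := by
  induction W with
  | nil => rfl
  | cons a W ih => rw [List.foldr_cons, ← ih]; rfl

/-- Conjugation by a word. -/
theorem move (S : Struct D C) (hRH : ratGroup D σ ≤ H) {W : List ℕ}
    (hW : okWord D W = true) :
    ∃ n ∈ H, ∀ r, r < D.nroots → wW C W r < D.nroots ∧
      ∃ η : F, IsSign η ∧ ∀ t : F, n * S.ok.xG r t * n⁻¹ = S.ok.xG (wW C W r) (η * t) := by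
  obtain ⟨L, hL⟩ := Struct.exists_fins (D := D) (L := W) fun i hi => by
    have h := (kall_iff _ _).1 hW i hi
    exact Nat.le_of_ble_eq_true h
  refine ⟨S.nL F L, nL_mem S hRH L, fun r hr => ?_⟩
  obtain ⟨η, hη, e⟩ := nL_conj (F := F) S L ⟨r, hr⟩
  have hv : (S.wpL L ⟨r, hr⟩).val = wW C W r := by rw [S.wpL_val, hL, wW_eq]
  rw [hv] at e
  exact ⟨hv ▸ (S.wpL L ⟨r, hr⟩).isLt, η, hη, e⟩

/-- The two-sided form of moving one root element. -/
theorem move_iff (S : Struct D C) (hRH : ratGroup D σ ≤ H) {W : List ℕ}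
    (hW : okWord D W = true) {r : ℕ} (hr : r < D.nroots) (t : F) :
    S.ok.xG r t ∈ H ↔ S.ok.xG (wW C W r) t ∈ H := by
  obtain ⟨n, hn, h⟩ := move S hRH hW
  obtain ⟨-, η, hη, e⟩ := h r hr
  have key : ∀ t, S.ok.xG r t ∈ H ↔ S.ok.xG (wW C W r) (η * t) ∈ H := fun t => by
    rw [← e t]
    refine ⟨fun hx => mul_mem (mul_mem hn hx) (inv_mem hn), fun hx => ?_⟩
    simpa [mul_assoc] using mul_mem (mul_mem (inv_mem hn) hx) hn
  rcases hη with rfl | rfl
  · simpa using key t
  · rw [key t, neg_one_mul, ← S.ok.xG_inv, inv_mem_iff]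

theorem hG_mem' (τ : F →+* F) (S : Struct D C) {r : ℕ} {t : F} {K : Subgroup (GL D.Idx F)}
    (h1 : ∀ u, τ u = u → S.ok.xG r u ∈ K) (h2 : ∀ u, τ u = u → S.ok.xG (D.neg r) u ∈ K) (ht : τ t = t) :
    S.ok.hG r t ∈ K := by
  simp only [Ok.hG, Ok.nG]
  refine mul_mem (mul_mem (mul_mem ?_ ?_) ?_) (mul_mem (mul_mem ?_ ?_) ?_) <;>
    first | exact h1 _ (by simp [ht]) | exact h2 _ (by simp [ht])

theorem okSpread_spec {Sh : List ℕ} {Ws : List (List ℕ)} (h : okSpread D C Sh Ws = true) :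
    (∀ W ∈ Ws, okWord D W = true) ∧
    (∀ i, i < D.rank → isLong Sh (C.sr i) = true → ∃ W ∈ Ws, wW C W (top D) = C.sr i) ∧
    ∀ s, s < D.nroots → isLong Sh s = false → ∃ W ∈ Ws, (pair D (wW C W (top D)) s).natAbs = 1 := by
  simp only [okSpread, Bool.and_eq_true] at h
  refine ⟨fun W hW => (kall_iff _ _).1 h.1.1 W hW, fun i hi hl => ?_, fun s hs hl => ?_⟩
  · have h2 := kall_krange h.1.2 i hi
    simp only [hl, Bool.not_true, Bool.false_or, kany_iff] at h2
    obtain ⟨W, hW, e⟩ := h2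
    exact ⟨W, hW, Nat.eq_of_beq_eq_true e⟩
  · have h2 := kall_krange h.2 s hs
    simp only [hl, Bool.false_or, kany_iff] at h2
    obtain ⟨W, hW, e⟩ := h2
    exact ⟨W, hW, Nat.eq_of_beq_eq_true e⟩

/-- The parameters of the highest root fixed by `τ` spread to all roots. -/
theorem full_of_top (K : Core D C T) (hr : 0 < D.rank) {Sh : List ℕ} (hL : okLong D C Sh = true)
    {Ws : List (List ℕ)} (hS : okSpread D C Sh Ws = true) (hRH : ratGroup D σ ≤ H)
    (τ : F →+* F) (hfull : ∀ t : F, τ t = t → K.S.ok.xG (top D) t ∈ H) : ratGroup D τ ≤ H := by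
  have S := K.S
  obtain ⟨t1, t2⟩ := top_lt S hr
  obtain ⟨hWs, hsimple, hshort⟩ := okSpread_spec hS
  have himg : ∀ W ∈ Ws, ∀ t : F, τ t = t → S.ok.xG (wW C W (top D)) t ∈ H :=
    fun W hW t ht => (move_iff S hRH (hWs W hW) t1 t).1 (hfull t ht)
  have hneg : ∀ i < D.rank, ∀ r, r < D.nroots → C.w i (D.neg r) = D.neg (C.w i r) := fun i hi r hr =>
    (S.ok.neg_w hi hr).symm
  have hw1 : ∀ i < D.rank, ∀ r, r < D.nroots → ∀ t, S.ok.xG (C.w i r) t ∈ H → S.ok.xG r t ∈ H :=
    fun i hi r hr t h => by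
      have hW : okWord D [i] = true := (kall_iff _ _).2 fun j hj => by
        rw [List.mem_singleton.1 hj]; exact Nat.ble_eq_true_of_le hi
      exact (move_iff S hRH hW hr t).2 h
  have hlongfix : ∀ i < D.rank, ∀ r, r < D.nroots → isLong Sh r = true → isLong Sh (C.w i r) = true :=
    fun i hi r hr h => by
      have := long_wpL S hL [⟨i, hi⟩] ⟨r, hr⟩ h
      simpa [Struct.wpL, Struct.wp_val] using this
  have hlong : ∀ r, r < D.nroots → isLong Sh r = true →
      (∀ t : F, τ t = t → S.ok.xG r t ∈ H) ∧ ∀ t : F, τ t = t → S.ok.xG (D.neg r) t ∈ H := by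
    refine S.ok.root_induction (fun i hi => ?_) fun i r hi hr ih hl => ?_
    · have hs := S.ok.sr_lt hi
      have hwn : C.w i (C.sr i) = D.neg (C.sr i) := by
        rw [(S.ok.refl_simple hi).1, S.ok.neg_eq hs]
      have hpos : isLong Sh (C.sr i) = true →
          (∀ t : F, τ t = t → S.ok.xG (C.sr i) t ∈ H) ∧
            ∀ t : F, τ t = t → S.ok.xG (D.neg (C.sr i)) t ∈ H := by
        intro hl
        obtain ⟨W, hW, e⟩ := hsimple i hi hl
        have h1 : ∀ t : F, τ t = t → S.ok.xG (C.sr i) t ∈ H := fun t ht => e ▸ himg W hW t ht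
        refine ⟨h1, fun t ht => ?_⟩
        obtain ⟨hn, hnn⟩ := S.neg_neg' hs
        refine hw1 i hi _ hn t ?_
        rw [hneg i hi _ hs, hwn, hnn]
        exact h1 t ht
      refine ⟨hpos, fun hl => ?_⟩
      rw [S.ok.neg_eq hs] at hl ⊢
      obtain ⟨hn, hnn⟩ := S.neg_neg' hs
      have h := hlongfix i hi _ hn hl
      rw [hneg i hi _ hs, hwn, hnn] at h
      rw [hnn]
      exact (hpos h).symm
    · obtain ⟨h1, h2⟩ := ih (hlongfix i hi r hr hl)
      obtain ⟨hn, -⟩ := S.neg_neg' hr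
      exact ⟨fun t ht => hw1 i hi r hr t (h1 t ht),
        fun t ht => hw1 i hi _ hn t (by rw [hneg i hi r hr]; exact h2 t ht)⟩
  have hall : ∀ s, s < D.nroots → ∀ t : F, τ t = t → S.ok.xG s t ∈ H := by
    intro s hs
    cases hl : isLong Sh s
    · obtain ⟨W, hW, hp⟩ := hshort s hs hl
      obtain ⟨n, hn, hmv⟩ := move (F := F) (σ := σ) S hRH (hWs W hW)
      obtain ⟨hγ, -⟩ := hmv _ t1
      have hlongW : isLong Sh (wW C W (top D)) = true := by
        obtain ⟨L, hL'⟩ := Struct.exists_fins (D := D) (L := W) fun i hi =>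
          Nat.le_of_ble_eq_true ((kall_iff _ _).1 (hWs W hW) i hi)
        rw [wW_eq, ← hL', show top D = (⟨top D, t1⟩ : Fin D.nroots).val from rfl, ← S.wpL_val]
        exact long_wpL S hL L _ (long_top hL)
      obtain ⟨h1, h2⟩ := hlong _ hγ hlongW
      intro t htf
      by_cases ht : t = 0
      · rw [ht, S.xG_zero]; exact one_mem _
      have hh : ∀ u : F, u ≠ 0 → τ u = u → S.ok.xG s (u ^ pair D (wW C W (top D)) s) ∈ H := fun u hu huf => by
        have e := hG_conj_xG S K.hco hγ hs hu (1 : F)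
        rw [mul_one] at e
        rw [← e]
        have hh := hG_mem' τ S h1 h2 huf
        exact mul_mem (mul_mem hh (xG_rat_mem S hRH s (map_one σ))) (inv_mem hh)
      rcases Int.natAbs_eq (pair D (wW C W (top D)) s) with e | e
      · have := hh t ht htf
        rwa [e, hp, Nat.cast_one, zpow_one] at this
      · have := hh t⁻¹ (inv_ne_zero ht) (by rw [map_inv₀, htf])
        rwa [e, hp, Nat.cast_one, zpow_neg, zpow_one, inv_inv] at this
    · exact (hlong s hs hl).1
  refine (Subgroup.closure_le _).2 ?_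
  rintro g ⟨r, t, ht, hx⟩
  rw [S.ok.eq_xG hx]
  by_cases hr : r < D.nroots
  · exact hall r hr t ht
  · have : S.ok.xG r t = 1 := Units.ext (by rw [S.ok.val_xG, Units.val_one]; exact dif_neg hr)
    rw [this]
    exact one_mem _

theorem ratGroup_id (S : Struct D C) : ratGroup D (RingHom.id F) = D.group F := by
  refine le_antisymm (fun g hg => (rat_fixed _ S g hg).2) ((Subgroup.closure_le _).2 ?_)
  rintro g ⟨r, t, hx⟩
  exact Subgroup.subset_closure ⟨r.val, t, rfl, by rw [hx]; simp [ChevalleyDatum.x, r.isLt]⟩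

end Cfsg.Lib.Subfield
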