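import Cfsg.Agent.Chev.Subfield.CaseOdd
import Cfsg.Agent.Chev.Subfield.CaseTwo
import Cfsg.Agent.Chev.Subfield.CaseA

/-! Maximality of the subfield subgroups. -/

set_option autoImplicit false

open Cfsg.Lie

namespace Cfsg.Lib.Subfield

open Cfsg.Lib.Chev

variable {F : Type*} [Field F] [Fintype F]

theorem maximal_fixed_field (σ : F →+* F) {q r : ℕ} (hq : 1 < q) (hr : r.Prime) (hσ : ∀ x, σ x = x ^ q)
    (hF : Nat.card F = q ^ r) :
    (∃ t, σ t ≠ t) ∧
      ∀ R : Subring F, (∀ x, σ x = x → x ∈ R) → (∃ x ∈ R, σ x ≠ x) → ∀ x, x ∈ R := by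
  let k : Subfield F := σ.eqLocusField (RingHom.id F)
  have hk : Nat.card k = q := by
    let N : Subgroup Fˣ := (powMonoidHom (q - 1) : Fˣ →* Fˣ).ker
    have hN : Nat.card N = q - 1 := by
      rw [IsCyclic.card_powMonoidHom_ker, Nat.card_units, hF]
      refine Nat.gcd_eq_right ?_
      simpa using Nat.sub_dvd_pow_sub_pow q 1 r
    have hu : ∀ u : Fˣ, u ∈ N ↔ σ (u : F) = u := fun u => by
      rw [MonoidHom.mem_ker, powMonoidHom_apply, hσ, Units.ext_iff, Units.val_pow_eq_pow_val, Units.val_one]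
      conv_rhs => rw [show q = q - 1 + 1 by omega, pow_succ]
      exact (mul_eq_right₀ u.ne_zero).symm
    have e : Nat.card kˣ = Nat.card N := Nat.card_congr
      { toFun := fun u => ⟨Units.map k.subtype.toMonoidHom u, (hu _).2 (u : k).2⟩
        invFun := fun u => Units.mk0 ⟨((u : Fˣ) : F), (hu _).1 u.2⟩
          (fun h => (u : Fˣ).ne_zero (congrArg Subtype.val h))
        left_inv := fun u => by ext; rfl
        right_inv := fun u => by ext; rfl }
    have hpos : 0 < Nat.card k := Nat.card_pos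
    rw [hN, Nat.card_units] at e
    omega
  have hfr : Module.finrank k F = r := by
    have h := Module.natCard_eq_pow_finrank (K := k) (V := F)
    rw [hk, hF] at h
    exact (Nat.pow_right_injective hq h).symm
  refine ⟨?_, fun R hR hne x => ?_⟩
  · by_contra hcon
    push Not at hcon
    have e : Nat.card k = Nat.card F := Nat.card_congr (Equiv.subtypeUnivEquiv fun t => hcon t)
    rw [hk, hF] at e
    have := (Nat.pow_right_injective hq (show q ^ 1 = q ^ r by rw [pow_one]; exact e))
    exact hr.one_lt.ne this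
  · haveI := Subalgebra.isSimpleOrder_of_finrank_prime k F (by rw [hfr]; exact hr)
    let R' : Subalgebra k F := { R.toSubsemiring with algebraMap_mem' := fun c => hR _ c.2 }
    rcases eq_bot_or_eq_top R' with h | h
    · obtain ⟨y, hy, hy'⟩ := hne
      have : y ∈ R' := hy
      rw [h, Algebra.mem_bot] at this
      obtain ⟨c, rfl⟩ := this
      exact absurd c.2 hy'
    · have : x ∈ R' := h ▸ Algebra.mem_top
      exact this

variable {D : ChevalleyDatum} {C : Cert} {T : List (List ℤ)}

theorem maximal (p : ℕ) [Fact p.Prime] [CharP F p] (σ : F →+* F)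
    (hmax : ∀ R : Subring F, (∀ x, σ x = x → x ∈ R) → (∃ x ∈ R, σ x ≠ x) → ∀ x, x ∈ R)
    (hD : D ∈ [chevG2, chevB2, chevD4, chevF4, chevE6, chevE7, chevE8]) (K : Core D C T) (hr : 0 < D.rank)
    {Sh : List ℕ} {r0 : ℕ} (hL : LongCert D C Sh r0) {Ws : List (List ℕ)} (hS : okSpread D C Sh Ws = true)
    (hw : ∃ r, okShort D Sh r = true ∨ okPartner D r = true) (hA : CaseA D C T F)
    (H : Subgroup (GL D.Idx F)) (hHG : H ≤ D.group F) (hMH : ∀ g ∈ D.group F, phiG σ D g = g → g ∈ H) :
    (∀ g ∈ H, phiG σ D g = g) ∨ H = D.group F := by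
  have hRH : ratGroup D σ ≤ H := fun g hg => hMH g (rat_fixed σ K.S g hg).2 (rat_fixed σ K.S g hg).1
  by_cases hne : ∃ u ∈ H, u ∈ D.posUnipotent F ∧ phiG σ D u ≠ u
  · obtain ⟨t, ht, htH⟩ := hA.lift σ K H hRH hne
    have hall := hmax (ringOf (params K.S H (top D)) (one_mem_params K.S hRH _) (hA.mul σ K H hRH))
      (fun x hx => xG_rat_mem K.S hRH _ hx) ⟨t, htH, ht⟩
    refine Or.inr (le_antisymm hHG ?_)
    rw [← ratGroup_id (F := F) K.S]
    exact full_of_top K hr hL.long hS hRH (RingHom.id F) fun t _ => hall t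
  · push Not at hne
    have O : Over σ D H := ⟨hHG, hRH, hne, fun g hg hgB => borel_fixed K hHG hMH hne hg hgB⟩
    have hN := normClosed p K O fun R hRG hR _ => exists_conj_le_U p hD hRG hR
    refine Or.inl ?_
    rcases eq_or_ne p 2 with rfl | hp
    · exact caseB_two K hr hL hw O hN
    · exact caseB_odd p hp K hr hL O hN

end Cfsg.Lib.Subfield
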