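import Cfsg.Agent.Chev.Subfield.BT
import Cfsg.Agent.Chev.Subfield.Abstract

/-! An overgroup meeting `U` in rational points contains the normalisers of the rational `p`-subgroups. -/

set_option autoImplicit false

open Cfsg.Lie Cfsg.Lib.Steinberg

namespace Cfsg.Lib.Subfield

open Cfsg.Lib.Chev

variable {D : ChevalleyDatum} {C : Cert} {T : List (List ℤ)} {F : Type*} [Field F]

/-- A group containing the rational root elements whose intersection with `B` consists of fixed points. -/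
structure Over (σ : F →+* F) (D : ChevalleyDatum) (H : Subgroup (GL D.Idx F)) : Prop where
  hHG : H ≤ D.group F
  hRH : ratGroup D σ ≤ H
  hU : ∀ g ∈ H, g ∈ D.posUnipotent F → phiG σ D g = g
  hB : ∀ g ∈ H, g ∈ D.borelSubgroup F → phiG σ D g = g

/-- The fixed points of the field map inside `H`. -/
noncomputable def fixIn (σ : F →+* F) (D : ChevalleyDatum) (H : Subgroup (GL D.Idx F)) : Subgroup ↥H :=
  (MonoidHom.eqLocus (phiG σ D) (MonoidHom.id _)).subgroupOf H

theorem mem_fixIn {σ : F →+* F} {H : Subgroup (GL D.Idx F)} {g : ↥H} :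
    g ∈ fixIn σ D H ↔ phiG σ D (g : GL D.Idx F) = g := Iff.rfl

variable {σ : F →+* F} {H : Subgroup (GL D.Idx F)}

theorem borel_diag (K : Core D C T) (hRH : ratGroup D σ ≤ H)
    (hU : ∀ g ∈ H, g ∈ D.posUnipotent F → phiG σ D g = g) {v d : GL D.Idx F} (hv : v ∈ D.posUnipotent F)
    (hd : d ∈ D.diagonalSubgroup F) (hgH : v * d ∈ H) : phiG σ D d = d := by
  have S := K.S
  rw [S.ok.diagonalSubgroup_eq] at hd
  obtain ⟨c, rfl⟩ := hd
  set χ : ℕ → Fˣ := fun r => ∏ i, c i ^ D.cartan i r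
  have hχ : ∀ r : Fin D.nroots, D.nroots / 2 ≤ r.val → σ (χ r.val : F) = (χ r.val : F) := by
    intro r hr
    have h1 : S.ok.xG r.val (1 : F) ∈ H := hRH (xG_rat σ S _ (map_one σ))
    obtain ⟨w, hw, ew⟩ := S.conj_pos_lead hv r.isLt hr (χ r.val : F)
    have e1 := S.tG_conj_xG r.isLt c (1 : F)
    rw [mul_one] at e1
    have e2 : v * Ok.tG D F c * S.ok.xG r.val 1 * (v * Ok.tG D F c)⁻¹ = S.ok.xG r.val (χ r.val : F) * w := by
      rw [← ew, ← e1]; group
    have hH : S.ok.xG r.val (χ r.val : F) * w ∈ H := e2 ▸ mul_mem (mul_mem hgH h1) (inv_mem hgH)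
    have hf := hU _ hH (mul_mem (S.xG_mem_U hr r.isLt _)
      (by rw [S.posUnipotent_eq]; exact S.Ugen_mono (by omega) hw))
    rw [map_mul, phiG_xG σ S] at hf
    exact lead_eq S r.isLt hr (phiG_Ugen σ S hw) hw hf
  have hd : phiG σ D (Ok.tG D F c) = Ok.tG D F c := by
    rw [phiG_eq_self σ]
    intro i j
    rw [Ok.tG_val]
    by_cases e : i = j
    · subst e
      rw [Matrix.diagonal_apply_eq]
      rcases i with a | s
      · simp
      · simp only [Sum.elim_inr]
        show σ (χ s.val : F) = (χ s.val : F)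
        by_cases hs : D.nroots / 2 ≤ s.val
        · exact hχ s hs
        · simp only [χ]
          rw [chi_lin K]
          push_cast [Units.coe_prod, Units.val_zpow_eq_zpow_val]
          rw [map_prod]
          refine Finset.prod_congr rfl fun j _ => ?_
          rw [map_zpow₀]
          congr 1
          have := hχ ⟨D.simple j, S.ok.sr_eq j.isLt ▸ S.ok.sr_lt j.isLt⟩
            (by show D.nroots / 2 ≤ D.simple j; rw [← S.ok.sr_eq j.isLt]; exact S.sr_pos j.isLt)
          simpa [χ] using this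
    · rw [Matrix.diagonal_apply_ne _ e, map_zero]
  exact hd

/-- When all fixed points of `G` lie in `H`. -/
theorem borel_fixed (K : Core D C T) (hHG : H ≤ D.group F)
    (hMH : ∀ g ∈ D.group F, phiG σ D g = g → g ∈ H)
    (hU : ∀ g ∈ H, g ∈ D.posUnipotent F → phiG σ D g = g) {g : GL D.Idx F} (hgH : g ∈ H)
    (hgB : g ∈ D.borelSubgroup F) : phiG σ D g = g := by
  obtain ⟨v, hv, d, hd, rfl⟩ := K.S.borel_decomp hgB
  have hf := borel_diag K (fun x hx => hMH x (rat_fixed σ K.S x hx).2 (rat_fixed σ K.S x hx).1) hU hv hd hgH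
  have hdH := hMH d (K.S.borel_le_group (Subgroup.mem_sup_right hd)) hf
  rw [map_mul, hU v (by simpa using mul_mem hgH (inv_mem hdH)) hv, hf]

theorem parabolic_fixed (K : Core D C T) (O : Over σ D H) {J : Set ℕ} (hJ : ∃ i, i < D.rank ∧ i ∉ J)
    {g : GL D.Idx F} (hgH : g ∈ H) (hgP : g ∈ D.parabolicSubgroup F J) : phiG σ D g = g := by
  have S := K.S
  have hgG := O.hHG hgH
  have hU : D.unipotentRadical F J ≤ D.posUnipotent F := by
    refine Subgroup.closure_mono ?_
    rintro x ⟨r, t, hr, -, hx⟩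
    exact ⟨r, t, hr, hx⟩
  have hnorm := (S.levi (F := F) K.hT K.hDesc J).1 hgP
  have hc : (phiG σ D g)⁻¹ * g ∈ D.posUnipotent F := by
    refine cent_UJ K hJ (mul_mem (inv_mem (phiG_group σ S hgG)) hgG) fun r hr hrJ => ?_
    have hx : S.ok.xG r.val (1 : F) ∈ D.unipotentRadical F J :=
      Subgroup.subset_closure ⟨r.val, 1, S.isPos_iff.2 ⟨hr, r.isLt⟩, hrJ, S.ok.val_xG _ _⟩
    have h1 : S.ok.xG r.val (1 : F) ∈ H := O.hRH (xG_rat σ S _ (map_one σ))
    have h2 := O.hU _ (mul_mem (mul_mem hgH h1) (inv_mem hgH))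
      (hU ((Subgroup.mem_normalizer_iff.1 hnorm _).1 hx))
    rw [map_mul, map_mul, map_inv, phiG_xG σ S, map_one] at h2
    calc (phiG σ D g)⁻¹ * g * S.ok.xG r.val 1
        = (phiG σ D g)⁻¹ * (g * S.ok.xG r.val 1 * g⁻¹) * g := by group
      _ = S.ok.xG r.val 1 * ((phiG σ D g)⁻¹ * g) := by rw [← h2]; group
  obtain ⟨m, hm, hmB⟩ := coset_rat_borel σ K hgG (by
    have := S.B_le_of (inv_mem hc)
    rwa [mul_inv_rev, inv_inv] at this)
  obtain ⟨hmf, hmG⟩ := rat_fixed σ S m hm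
  have h3 := O.hB _ (mul_mem (inv_mem (O.hRH hm)) hgH) hmB
  rw [map_mul, map_inv, hmf] at h3
  exact mul_left_cancel h3

/-- The fixed points contain the normalisers of their nontrivial `p`-subgroups. -/
theorem normClosed (p : ℕ) [Fact p.Prime] (K : Core D C T) (O : Over σ D H)
    (hconj : ∀ R : Subgroup (GL D.Idx F), R ≤ D.group F → IsPGroup p ↥R → (∀ x ∈ R, phiG σ D x = x) →
      ∃ g ∈ D.group F, ∀ x ∈ R, g⁻¹ * x * g ∈ D.posUnipotent F) :
    NormClosed p (fixIn σ D H) := by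
  intro Q hQM hQp hQ g hg
  have hfix : ∀ x ∈ Q.map H.subtype, phiG σ D x = x := fun x hx => by
    obtain ⟨y, hy, rfl⟩ := hx; exact hQM hy
  obtain ⟨m, hm, J, hJ, hP⟩ := borel_tits_rat σ K (Q.map H.subtype)
    (fun e => hQ ((Subgroup.map_eq_bot_iff_of_injective _ H.subtype_injective).1 e)) hfix
    (hconj _ (fun x hx => by obtain ⟨y, -, rfl⟩ := hx; exact O.hHG y.2) (hQp.map _) hfix)
  obtain ⟨hmf, hmG⟩ := rat_fixed σ K.S m hm
  have hn : (g : GL D.Idx F) ∈ Subgroup.normalizer ((Q.map H.subtype : Subgroup (GL D.Idx F)) : Set (GL D.Idx F)) := by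
    rw [Subgroup.mem_normalizer_iff] at hg ⊢
    intro x
    constructor
    · rintro ⟨y, hy, rfl⟩
      exact ⟨g * y * g⁻¹, (hg y).1 hy, rfl⟩
    · rintro ⟨y, hy, e⟩
      refine ⟨g⁻¹ * y * g, (hg _).2 (by simpa [mul_assoc] using hy), ?_⟩
      have e' : (y : GL D.Idx F) = (g : GL D.Idx F) * x * (g : GL D.Idx F)⁻¹ := e
      simp [e', mul_assoc]
  have hmH := O.hRH hm
  have h := parabolic_fixed K O hJ (mul_mem (mul_mem (inv_mem hmH) g.2) hmH) (hP g (O.hHG g.2) hn)
  rw [map_mul, map_mul, map_inv, hmf] at h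
  exact mem_fixIn.2 (mul_left_cancel (mul_right_cancel h))

theorem fixed_of_conj [Finite H] {p : ℕ} [Fact p.Prime] (hN : NormClosed p (fixIn σ D H))
    {x g : GL D.Idx F} (hxH : x ∈ H) (hxf : phiG σ D x = x) (hx : x ≠ 1) (hxp : x ^ p = 1) (hg : g ∈ H)
    (h : phiG σ D (g * x * g⁻¹) = g * x * g⁻¹) : phiG σ D g = g :=
  mem_of_conj_mem hN (x := ⟨x, hxH⟩) (g := ⟨g, hg⟩) hxf (fun e => hx (congrArg Subtype.val e))
    (Subtype.ext hxp) h

theorem fixed_of_commute [Finite H] {p : ℕ} [Fact p.Prime] (hN : NormClosed p (fixIn σ D H))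
    {x g : GL D.Idx F} (hxH : x ∈ H) (hxf : phiG σ D x = x) (hx : x ≠ 1) (hxp : x ^ p = 1) (hg : g ∈ H)
    (h : g * x = x * g) : phiG σ D g = g :=
  fixed_of_conj hN hxH hxf hx hxp hg (by rw [h, mul_inv_cancel_right, hxf])

end Cfsg.Lib.Subfield
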