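import Cfsg.Agent.Chev.Subfield.Norm

/-! Rational `p`-subgroups over a field with a finite fixed field are conjugate into `U`. -/

set_option autoImplicit false

open Cfsg.Lie

namespace Cfsg.Lib.Subfield

open Cfsg.Lib.Chev

variable {D : ChevalleyDatum} {C : Cert} {T : List (List ℤ)} {F : Type*} [Field F] (τ : F →+* F)

/-- The fixed field. -/
abbrev fixF : Subfield F := τ.eqLocusField (RingHom.id F)

/-- Matrices over the fixed field as matrices over the field. -/
noncomputable def incG (D : ChevalleyDatum) : GL D.Idx (fixF τ) →* GL D.Idx F :=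
  Matrix.GeneralLinearGroup.map (fixF τ).subtype

theorem incG_inj (D : ChevalleyDatum) : Function.Injective (incG τ D) := by
  intro g h e
  refine Units.ext (Matrix.map_injective (fixF τ).subtype_injective ?_)
  exact congrArg (fun u : GL D.Idx F => (u : Matrix D.Idx D.Idx F)) e

theorem incG_xG (S : Struct D C) (r : ℕ) (t : fixF τ) :
    incG τ D (S.ok.xG r t) = S.ok.xG r (t : F) :=
  Units.ext (by
    show ((S.ok.xG r t : GL D.Idx (fixF τ)) : Matrix D.Idx D.Idx (fixF τ)).map (fixF τ).subtype = _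
    rw [S.ok.val_xG, Ok.map_x D, S.ok.val_xG]
    rfl)

theorem map_incG_group (S : Struct D C) : (D.group (fixF τ)).map (incG τ D) = ratGroup D τ := by
  refine le_antisymm ?_ ((Subgroup.closure_le _).2 ?_)
  · rw [ChevalleyDatum.group, MonoidHom.map_closure, Subgroup.closure_le]
    rintro _ ⟨g, ⟨r, t, hg⟩, rfl⟩
    have hg' : (g : Matrix D.Idx D.Idx (fixF τ)) = D.x (fixF τ) r.val t := by
      rw [hg]; simp [ChevalleyDatum.x, r.isLt]
    rw [S.ok.eq_xG hg', incG_xG τ S]
    exact xG_rat τ S _ t.2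
  · rintro g ⟨r, t, ht, hg⟩
    rw [S.ok.eq_xG hg]
    exact ⟨_, S.ok.xG_mem_group r (⟨t, ht⟩ : fixF τ), incG_xG τ S r _⟩

theorem incG_pos (S : Struct D C) {g : GL D.Idx (fixF τ)} (hg : g ∈ D.posUnipotent (fixF τ)) :
    incG τ D g ∈ D.posUnipotent F := by
  refine (show D.posUnipotent (fixF τ) ≤ (D.posUnipotent F).comap (incG τ D) from
    (Subgroup.closure_le _).2 ?_) hg
  rintro x ⟨r, t, hr, hx⟩
  rw [S.ok.eq_xG hx, SetLike.mem_coe, Subgroup.mem_comap, incG_xG τ S]
  exact Subgroup.subset_closure ⟨r, _, hr, S.ok.val_xG _ _⟩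

/-- A fixed element of `p`-power order lies in the rational group. -/
theorem mem_rat_of_fixed [Finite (fixF τ)] (p : ℕ) [Fact p.Prime] [CharP F p] (S : Struct D C) (hN : okNeg D = true)
    {g : GL D.Idx F} (hg : g ∈ D.group F) (hf : phiG τ D g = g) {n : ℕ} (hgn : g ^ p ^ n = 1) :
    g ∈ ratGroup D τ := by
  obtain ⟨l, hl, d, hd, hdf, rfl⟩ := fixed_decomp τ S hN hg hf
  set e := Nat.card (fixF τ) - 1
  have hde : d ^ e = 1 := by
    have hent := (phiG_eq_self τ).1 hdf
    rw [S.ok.diagonalSubgroup_eq] at hd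
    obtain ⟨c, rfl⟩ := hd
    refine Units.ext ?_
    rw [Units.val_pow_eq_pow_val, Units.val_one, Ok.tG_val, Matrix.diagonal_pow, ← Matrix.diagonal_one]
    congr 1
    funext z
    rcases z with a | s
    · simp
    · have h := hent (Sum.inr s) (Sum.inr s)
      rw [Ok.tG_val, Matrix.diagonal_apply_eq, Sum.elim_inr] at h
      simp only [Pi.pow_apply, Sum.elim_inr]
      set x : fixF τ := ⟨_, h⟩ with hx
      have hx0 : x ≠ 0 := fun h0 => Units.ne_zero _ (congrArg Subtype.val h0)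
      haveI := Fintype.ofFinite (fixF τ)
      have := FiniteField.pow_card_sub_one_eq_one x hx0
      rw [← Nat.card_eq_fintype_card] at this
      have h2 := congrArg Subtype.val this
      push_cast at h2
      rw [hx] at h2
      simpa [Units.coe_prod, e] using h2
  have hnorm : ∀ y ∈ ratGroup D τ, d * y * d⁻¹ ∈ ratGroup D τ := by
    refine fun y hy => Struct.conj_closure_le ?_ y hy
    rintro x ⟨r, t, ht, hx⟩
    rw [S.ok.eq_xG hx]
    by_cases hr : r < D.nroots
    · obtain ⟨-, c, -, e⟩ := S.act_diag hd ⟨r, hr⟩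
      have e1 := (e t).1
      have e2 := congrArg (phiG τ D) e1
      rw [map_mul, map_mul, map_inv, hdf, phiG_xG τ S, ht, e1] at e2
      rw [phiG_xG τ S] at e2
      rw [e1]
      exact xG_rat τ S _ (S.xG_left_inj hr e2).symm
    · have : S.ok.xG r t = 1 := Units.ext (by
        rw [S.ok.val_xG, Units.val_one]; exact dif_neg hr)
      rw [this, mul_one, mul_inv_cancel]
      exact one_mem _
  have hpow : ∀ i : ℕ, ∃ y ∈ ratGroup D τ, (l * d) ^ i = y * d ^ i := by
    intro i
    induction i with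
    | zero => exact ⟨1, one_mem _, by simp⟩
    | succ i ih =>
      obtain ⟨y, hy, e⟩ := ih
      refine ⟨l * (d * y * d⁻¹), mul_mem hl (hnorm y hy), ?_⟩
      rw [pow_succ', e, pow_succ']
      group
  obtain ⟨y, hy, ey⟩ := hpow e
  rw [hde, mul_one] at ey
  have hcop : Nat.Coprime (p ^ n) e := by
    refine Nat.Coprime.pow_left _ (((Fact.out : p.Prime).coprime_iff_not_dvd).2 fun hdvd => ?_)
    haveI : CharP (fixF τ) p := (RingHom.charP_iff (fixF τ).subtype (fixF τ).subtype_injective p).2 ‹_›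
    haveI := Fintype.ofFinite (fixF τ)
    obtain ⟨m, -, hm⟩ := FiniteField.card (fixF τ) p
    have hpos : 1 ≤ Nat.card (fixF τ) := Nat.card_pos
    have h1 : p ∣ Nat.card (fixF τ) := by
      rw [Nat.card_eq_fintype_card, hm]; exact dvd_pow_self p m.ne_zero
    have h2 := Nat.dvd_sub h1 hdvd
    rw [show Nat.card (fixF τ) - e = 1 by omega] at h2
    exact (Fact.out : p.Prime).one_lt.ne' (Nat.dvd_one.1 h2)
  obtain ⟨u, v, huv⟩ : ∃ u v : ℤ, (1 : ℤ) = (p ^ n : ℕ) * u + (e : ℤ) * v := by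
    refine ⟨Nat.gcdA (p ^ n) e, Nat.gcdB (p ^ n) e, ?_⟩
    rw [← Nat.gcd_eq_gcd_ab, hcop.gcd_eq_one, Nat.cast_one]
  rw [← zpow_one (l * d), huv, zpow_add, zpow_mul, zpow_mul, zpow_natCast, zpow_natCast, hgn, one_zpow, one_mul, ey]
  exact zpow_mem hy v

/-- Fixed `p`-subgroups are conjugate into `U`. -/
theorem conj_into_U [Finite (fixF τ)] (p : ℕ) [Fact p.Prime] [CharP F p]
    (hD : D ∈ [chevG2, chevB2, chevD4, chevF4, chevE6, chevE7, chevE8]) (K : Core D C T)
    (R : Subgroup (GL D.Idx F)) (hRG : R ≤ D.group F) (hR : IsPGroup p ↥R) (hfix : ∀ x ∈ R, phiG τ D x = x) :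
    ∃ g ∈ D.group F, ∀ x ∈ R, g⁻¹ * x * g ∈ D.posUnipotent F := by
  have S := K.S
  haveI := Fintype.ofFinite (fixF τ)
  haveI : CharP (fixF τ) p := (RingHom.charP_iff (fixF τ).subtype (fixF τ).subtype_injective p).2 ‹_›
  have hrat : R ≤ (D.group (fixF τ)).map (incG τ D) := by
    intro x hx
    rw [map_incG_group τ S]
    obtain ⟨n, hn⟩ := hR ⟨x, hx⟩
    exact mem_rat_of_fixed τ p S K.hN (hRG hx) (hfix x hx) (by simpa using congrArg Subtype.val hn)
  obtain ⟨g, hg, hgU⟩ := exists_conj_le_U (F := fixF τ) p hD (R := (R.comap (incG τ D)))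
    (fun x hx => by
      obtain ⟨y, hy, e⟩ := hrat hx
      rwa [← incG_inj τ D e])
    (hR.comap_of_injective _ (incG_inj τ D))
  refine ⟨incG τ D g, (rat_fixed τ S _ (by rw [← map_incG_group τ S]; exact ⟨g, hg, rfl⟩)).2, fun x hx => ?_⟩
  obtain ⟨y, -, rfl⟩ := hrat hx
  have h := incG_pos τ S (hgU y hx)
  rwa [map_mul, map_mul, map_inv] at h

end Cfsg.Lib.Subfield
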