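import Cfsg.Agent.Chev.Subfield.AlgBorel
import Cfsg.Agent.Chev.Subfield.Transfer
import Cfsg.Agent.Chev.Subfield.CaseA
import Cfsg.Agent.Chev.Subfield.CaseOdd
import Cfsg.Agent.Chev.Subfield.CaseTwo

/-! Finite overgroups of the points over a finite subfield. -/

set_option autoImplicit false

open Cfsg.Lie

namespace Cfsg.Lib.Subfield

open Cfsg.Lib.Chev

variable {D : ChevalleyDatum} {C : Cert} {T : List (List ℤ)} {F : Type*} [Field F]

/-- The root elements over a field of parameters and the fixed points bound a finite overgroup. -/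
theorem overgroup (p : ℕ) [Fact p.Prime] [CharP F p]
    (hD : D ∈ [chevG2, chevB2, chevD4, chevF4, chevE6, chevE7, chevE8]) (K : Core D C T) (hr : 0 < D.rank)
    {Sh : List ℕ} {r0 : ℕ} (hL : LongCert D C Sh r0) {Ws : List (List ℕ)} (hS : okSpread D C Sh Ws = true)
    (hw : ∃ r, okShort D Sh r = true ∨ okPartner D r = true) (hA : CaseA D C T F) {sp2 sp3 : List ℕ}
    (hG : okGrow D 2 sp2 = true ∧ okGrow D 3 sp3 = true ∧ okGrow D 5 [] = true)
    (hP2 : okPair1 D sp2 = true) (hP3 : okPair1 D sp3 = true) {a : ℕ} (hDn : okDown D a = true)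
    (σ : F →+* F) (H : Subgroup (GL D.Idx F)) [Finite H] (hHG : H ≤ D.group F) (hRH : ratGroup D σ ≤ H) :
    ∃ R : Subfield F, (R : Set F).Finite ∧ (∀ x, σ x = x → x ∈ R) ∧
      ∀ τ : F →+* F, (∀ x, τ x = x ↔ x ∈ R) → ratGroup D τ ≤ H ∧ ∀ g ∈ H, phiG τ D g = g := by
  let A := params K.S H (top D)
  let R0 : Subring F := ringOf A (one_mem_params K.S hRH _) (hA.mul σ K H hRH)
  have hfin : (R0 : Set F).Finite := finite_params K.S (top_lt K.S hr).1
  let R : Subfield F := { R0 with inv_mem' := fun x hx => inv_mem_finite hfin hx }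
  refine ⟨R, hfin, fun x hx => xG_rat_mem K.S hRH _ hx, fun τ hτ => ?_⟩
  haveI : Finite (fixF τ) :=
    (hfin.subset (show (fixF τ : Set F) ⊆ (R0 : Set F) from fun x hx => (hτ x).1 hx)).to_subtype
  have hRτ : ratGroup D τ ≤ H := full_of_top K hr hL.long hS hRH τ fun t ht => (hτ t).1 ht
  refine ⟨hRτ, ?_⟩
  have hU : ∀ g ∈ H, g ∈ D.posUnipotent F → phiG τ D g = g := by
    intro g hg hgU
    by_contra hne
    obtain ⟨t, ht, htH⟩ := hA.lift τ K H hRτ ⟨g, hg, hgU, hne⟩
    exact ht ((hτ t).2 htH)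
  have hB : ∀ g ∈ H, g ∈ D.borelSubgroup F → phiG τ D g = g := by
    intro g hg hgB
    rcases eq_or_ne p 2 with rfl | hp2
    · exact borel_fixed_alg K hr 2 2 hG.1 (Or.inl rfl) hP2 hDn hRτ hU hg hgB
    rcases eq_or_ne p 3 with rfl | hp3
    · exact borel_fixed_alg K hr 3 3 hG.2.1 (Or.inl rfl) hP3 hDn hRτ hU hg hgB
    have h5 : 5 ≤ p := by
      have hp := (Fact.out : p.Prime)
      by_contra hlt
      have := hp.two_le
      interval_cases p <;> simp_all <;> norm_num at hp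
    exact borel_fixed_alg K hr p 5 hG.2.2 (Or.inr ⟨h5, rfl⟩) (pair1_nil D) hDn hRτ hU hg hgB
  have O : Over τ D H := ⟨hHG, hRτ, hU, hB⟩
  have hN := normClosed p K O fun Q hQG hQ hQf => conj_into_U τ p hD K Q hQG hQ hQf
  rcases eq_or_ne p 2 with rfl | hp
  · exact caseB_two K hr hL hw O hN
  · exact caseB_odd p hp K hr hL O hN

end Cfsg.Lib.Subfield
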