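import Cfsg.Agent.Chev.Subfield.Grow

/-! `G₂` in characteristic three. -/

set_option autoImplicit false

open Cfsg.Lie

namespace Cfsg.Lib.Subfield

open Cfsg.Lib.Chev

variable {D : ChevalleyDatum} {C : Cert} {T : List (List ℤ)} {F : Type*} [Field F] {σ : F →+* F}
  {H : Subgroup (GL D.Idx F)}

theorem short_param_G (K : Core D C T) (hr : 0 < D.rank) [CharP F 3] [Finite H]
    (hRH : ratGroup D σ ≤ H) {s : ℕ} {w v z : List ℕ} (hG : okG D C s w v = true)
    (hz : okWord D z = true) (hzs : wW C z s = D.neg s) {t e : F}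
    (hu : K.S.ok.xG s t * K.S.ok.xG (top D) e ∈ H) : K.S.ok.xG (top D) t ∈ H := by
  haveI : Fact (Nat.Prime 3) := ⟨Nat.prime_three⟩
  have S := K.S
  obtain ⟨t1, t2⟩ := top_lt S hr
  simp only [okG, Bool.and_eq_true, Bool.not_eq_true'] at hG
  obtain ⟨⟨⟨⟨⟨⟨⟨⟨⟨⟨hw, hv⟩, hs⟩, hst⟩, hrp⟩, hqp⟩, hrq⟩, hwt⟩, hcomm⟩, hpair⟩, hterm⟩ := hG
  replace hs : D.nroots / 2 ≤ s := Nat.le_of_ble_eq_true hs
  replace hst : s < top D := Nat.le_of_ble_eq_true hst
  replace hrp : D.nroots / 2 ≤ wW C w s := Nat.le_of_ble_eq_true hrp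
  replace hqp : D.nroots / 2 ≤ wW C v s := Nat.le_of_ble_eq_true hqp
  replace hrq : wW C w s ≠ wW C v s := Nat.ne_of_beq_eq_false hrq
  replace hwt : wW C w (top D) = top D := Nat.eq_of_beq_eq_true hwt
  replace hpair : (pair D s (top D)).natAbs = 3 := Nat.eq_of_beq_eq_true hpair
  have hsn : s < D.nroots := by omega
  obtain ⟨n, hn, hmv⟩ := move (F := F) (σ := σ) S hRH hw
  obtain ⟨hrn, η, hη, eη⟩ := hmv s hsn
  obtain ⟨-, η', hη', eη'⟩ := hmv (top D) t1
  rw [hwt] at eη'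
  obtain ⟨n', hn', hmv'⟩ := move (F := F) (σ := σ) S hRH hv
  obtain ⟨hqn, -⟩ := hmv' s hsn
  set r := wW C w s
  set q := wW C v s
  simp only [okComm, Bool.and_eq_true, Bool.not_eq_true'] at hcomm
  obtain ⟨⟨-, hqt⟩, hqt'⟩ := hcomm
  have hqθ : ∀ a b : F, Commute (S.ok.xG q a) (S.ok.xG (top D) b) := fun a b =>
    commutes_xG S hqn t1 hqt (Nat.ne_of_beq_eq_false hqt') a b
  obtain ⟨c, rest, hterm', hc, hrest⟩ : ∃ c rest, D.commTerms r q = (s, c, 1, 1) :: rest ∧ c.natAbs % 3 ≠ 0 ∧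
      ∀ y ∈ rest, y.2.1.natAbs % 3 = 0 := by
    generalize D.commTerms r q = L at hterm
    rcases L with _ | ⟨⟨x, c, i, j⟩, rest⟩
    · simp at hterm
    · simp only [Bool.and_eq_true, Bool.not_eq_true', kall_iff] at hterm
      obtain ⟨⟨⟨⟨h1, h2⟩, h3⟩, h4⟩, h5⟩ := hterm
      exact ⟨c, rest, by rw [Nat.eq_of_beq_eq_true h1, Nat.eq_of_beq_eq_true h2, Nat.eq_of_beq_eq_true h3],
        Nat.ne_of_beq_eq_false h4, fun y hy => Nat.eq_of_beq_eq_true (h5 y hy)⟩
  have hcf : (c : F) * c = 1 := by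
    have h : ((c * c - 1 : ℤ) : F) = 0 := by
      rw [CharP.intCast_eq_zero_iff F 3]
      have hc' : c % 3 = 1 ∨ c % 3 = 2 := by omega
      rcases hc' with h | h <;> (refine Int.dvd_of_emod_eq_zero ?_; simp only [Nat.cast_ofNat]; rw [Int.sub_emod, Int.mul_emod, h]; rfl)
    push_cast at h
    linear_combination h
  have hcomm' : ∀ a b : F, (S.ok.xG q b)⁻¹ * (S.ok.xG r a * S.ok.xG q b * (S.ok.xG r a)⁻¹) =
      S.ok.xG s ((c : F) * a * b) := by
    intro a b
    have hn' : q ≠ D.neg r := by have := S.neg_lt_half hrn hrp; omega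
    rw [conj_eq S hrn hqn hrq.symm hn', inv_mul_cancel_left]
    simp only [ChevalleyDatum.commWord, hterm', List.map_cons, Ok.wG, List.prod_cons]
    rw [List.prod_eq_one fun g hg => ?_, mul_one]
    · simp
    · simp only [List.map_map, List.mem_map] at hg
      obtain ⟨y, hy, rfl⟩ := hg
      have h0 : (y.2.1 : F) = 0 := by
        rw [CharP.intCast_eq_zero_iff F 3, Int.natCast_dvd]
        exact Nat.dvd_of_mod_eq_zero (hrest y hy)
      simp [h0, S.xG_zero]
  -- an irrational short root element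
  have hg : S.ok.xG r (η * t) * S.ok.xG (top D) (η' * e) ∈ H := by
    rw [← eη, ← eη']
    have := mul_mem (mul_mem hn hu) (inv_mem hn)
    rwa [show n * S.ok.xG s t * n⁻¹ * (n * S.ok.xG (top D) e * n⁻¹) =
      n * (S.ok.xG s t * S.ok.xG (top D) e) * n⁻¹ by group]
  have hsmem : S.ok.xG s ((c : F) * (η * t)) ∈ H := by
    have hx := xG_rat_mem (σ := σ) S hRH q (map_one σ)
    have h := mul_mem (inv_mem hx) (mul_mem (mul_mem hg hx) (inv_mem hg))
    rw [show S.ok.xG r (η * t) * S.ok.xG (top D) (η' * e) * S.ok.xG q 1 *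
        (S.ok.xG r (η * t) * S.ok.xG (top D) (η' * e))⁻¹ =
        S.ok.xG r (η * t) * (S.ok.xG (top D) (η' * e) * S.ok.xG q 1 * (S.ok.xG (top D) (η' * e))⁻¹) *
          (S.ok.xG r (η * t))⁻¹ by group, (hqθ 1 _).symm.eq, mul_inv_cancel_right, hcomm', mul_one] at h
    exact h
  have er : params S H s = params S H r := params_move S hRH hw hsn
  have eq' : params S H s = params S H q := params_move S hRH hv hsn
  have hmul : ∀ x ∈ params S H s, ∀ y ∈ params S H s, x * y ∈ params S H s := fun x hx y hy => by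
    have hx' : S.ok.xG r x ∈ H := mem_params.1 (show x ∈ params S H r from er ▸ hx)
    have hy' : S.ok.xG q y ∈ H := mem_params.1 (show y ∈ params S H q from eq' ▸ hy)
    have h : (c : F) * x * y ∈ params S H s := mem_params.2 (hcomm' x y ▸
      mul_mem (inv_mem hy') (mul_mem (mul_mem hx' hy') (inv_mem hx')))
    have h2 := AddSubgroup.zsmul_mem _ h c
    rwa [zsmul_eq_mul, ← mul_assoc, ← mul_assoc, hcf, one_mul] at h2
  set R := ringOf (params S H s) (one_mem_params S hRH s) hmul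
  have hRfin : (R : Set F).Finite := finite_params S hsn
  have hneg : ∀ x ∈ R, S.ok.xG (D.neg s) x ∈ H := fun x hx => hzs ▸ (move_iff S hRH hz hsn x).1 hx
  have hh : ∀ u ∈ R, S.ok.hG s u ∈ H := fun u hu => by
    have h1 : ∀ x ∈ R, S.ok.xG s x ∈ H := fun x hx => hx
    have hi := inv_mem_finite hRfin hu
    simp only [Ok.hG, Ok.nG, inv_neg, inv_one, neg_neg]
    exact mul_mem (mul_mem (mul_mem (h1 _ hu) (hneg _ (neg_mem hi))) (h1 _ hu))
      (mul_mem (mul_mem (h1 _ (neg_mem R.one_mem)) (hneg _ R.one_mem)) (h1 _ (neg_mem R.one_mem)))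
  have htR : t ∈ R := by
    have h2 := AddSubgroup.zsmul_mem _ (show (c : F) * (η * t) ∈ params S H s from hsmem) c
    rw [zsmul_eq_mul, ← mul_assoc, hcf, one_mul] at h2
    rcases hη with rfl | rfl
    · rwa [one_mul] at h2
    · rw [neg_one_mul] at h2; exact (show t ∈ params S H s by simpa using neg_mem h2)
  obtain ⟨y, hyR, rfl⟩ := pow_char_surj_finite hRfin 3 htR
  rcases eq_or_ne y 0 with rfl | hy
  · rw [zero_pow (by norm_num), S.xG_zero]; exact one_mem _
  have key : ∀ u : F, u ≠ 0 → u ∈ R → S.ok.xG (top D) (u ^ pair D s (top D)) ∈ H := fun u hu huR => by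
    have e := hG_conj_xG S K.hco hsn t1 hu (1 : F)
    rw [mul_one] at e
    rw [← e]
    exact mul_mem (mul_mem (hh u huR) (xG_rat_mem S hRH _ (map_one σ))) (inv_mem (hh u huR))
  rcases Int.natAbs_eq (pair D s (top D)) with h | h
  · have := key y hy hyR
    rwa [h, hpair, zpow_natCast] at this
  · have := key y⁻¹ (inv_ne_zero hy) (inv_mem_finite hRfin hyR)
    rwa [h, hpair, zpow_neg, zpow_natCast, inv_pow, inv_inv] at this

end Cfsg.Lib.Subfield
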